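import Cfsg.Agent.Lib.CubicE6.Tables
import Cfsg.Prelude.Def_ChevE6
import Cfsg.Prelude.Def_Steinberg

/-!
The tables pass the checks.
-/

set_option autoImplicit false

namespace CfsgLib.CubicE6

open Cfsg.Lie

/-- The six fundamental roots. -/
def torRoots : List ℕ := (List.range 6).map chevE6.simple

/-- The checks on all pairs of roots. -/
def pairsOK : Bool :=
  (List.range 72).all fun r => (List.range 72).all fun s =>
    decide (s = r) || decide (s = chevE6.neg r) ||
      match chevE6.commTerms r s with
      | [] => commOK (ops r) (ops s)
      | [(v, c, 1, 1)] => decide (v < 72) && pairOK (ops r) (ops s) (ops v) c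
      | _ => false

/-- The checks on all roots. -/
def rootsOK : Bool :=
  (List.range 72).all fun r =>
    decide (chevE6.neg r < 72) && rootOK monos (ops r) (ops (chevE6.neg r))

theorem monos_wf : (monos.all fun m => decide (m.1 < 27 ∧ m.2.1 < 27 ∧ m.2.2.1 < 27)) = true := by
  decide +kernel

theorem steps_ok : stepsOK monos ops 72 chevE6.neg torRoots [] steps = true := by decide +kernel

theorem roots_ok : rootsOK = true := by decide +kernel

theorem pairs_ok : pairsOK = true := by decide +kernel

end CfsgLib.CubicE6
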