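import Mathlib

/-!
Computable checks used for the cubic form in twenty-seven variables: sparse matrices, substitution
into the form, and the steps which move an isometry to the identity.
-/

set_option autoImplicit false

namespace CfsgLib.CubicE6

/-- A sparse matrix: row, column, entry. -/
abbrev Ents := List (ℕ × ℕ × ℤ)

/-- A cubic monomial with a coefficient. -/
abbrev Mono := ℕ × ℕ × ℕ × ℤ

/-- How the image of the basis vector of a step is brought to its position. -/
inductive Mode where
  | forced (a a' : ℕ)
  | free (wit : Option ℕ) (move : List (ℕ × List ℕ)) (lam : List ℤ)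

/-- One step: the basis vector treated, the coordinates known to vanish with the reason, the
coordinates to be cleared with their roots, and the coordinates cleared by singularity. -/
structure Step where
  b : ℕ
  zero : List (ℕ × ℕ × ℕ)
  kill : List (ℕ × ℕ)
  opp : List (ℕ × ℕ)
  mode : Mode

/-- Insertion of an entry, combining it with the entry in the same place. -/
def insE (x : ℕ × ℕ × ℤ) : Ents → Ents
  | [] => [x]
  | y :: L =>
    cond (Nat.beq y.1 x.1 && Nat.beq y.2.1 x.2.1) ((x.1, x.2.1, x.2.2 + y.2.2) :: L) (y :: insE x L)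

/-- Entries combined, zero entries dropped. -/
def normE (L : Ents) : Ents := (L.foldr insE []).filter fun x => decide (x.2.2 ≠ 0)

/-- The negative. -/
def negE (L : Ents) : Ents := L.map fun x => (x.1, x.2.1, -x.2.2)

/-- Equality of sparse matrices. -/
def sameE (L L' : Ents) : Bool := (normE (L ++ negE L')).isEmpty

/-- The product. -/
def compE (L L' : Ents) : Ents :=
  L.flatMap fun a => L'.flatMap fun b =>
    cond (Nat.beq a.2.1 b.1) [(a.1, b.2.1, a.2.2 * b.2.2)] []

/-- The identity. -/
def oneE : Ents := (List.range 27).map fun k => (k, k, 1)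

/-- All positions are in range. -/
def wfE (L : Ents) : Bool := L.all fun x => Nat.ble x.1 26 && Nat.ble x.2.1 26

/-- The six orders of the factors of the monomials. -/
def perms6 (M : List Mono) : List Mono :=
  M.flatMap fun m => [(m.1, m.2.1, m.2.2.1, m.2.2.2), (m.1, m.2.2.1, m.2.1, m.2.2.2),
    (m.2.1, m.1, m.2.2.1, m.2.2.2), (m.2.1, m.2.2.1, m.1, m.2.2.2),
    (m.2.2.1, m.1, m.2.1, m.2.2.2), (m.2.2.1, m.2.1, m.1, m.2.2.2)]

/-- The three choices of a distinguished factor of the monomials. -/
def rots3 (M : List Mono) : List Mono :=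
  M.flatMap fun m => [(m.1, m.2.1, m.2.2.1, m.2.2.2), (m.2.1, m.1, m.2.2.1, m.2.2.2),
    (m.2.2.1, m.1, m.2.1, m.2.2.2)]

/-- The monomials with given first and second factor. -/
def pick12 (L : List Mono) (a e : ℕ) : List Mono :=
  L.filter fun m => Nat.beq m.1 a && Nat.beq m.2.1 e

/-- The monomials with given first factor. -/
def pick1 (L : List Mono) (a : ℕ) : List Mono := L.filter fun m => Nat.beq m.1 a

/-! ### Substitution of a root element into the form -/

/-- The values substituted for a coordinate: coordinate, coefficient, degree in the parameter. -/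
def subC (E : Ents) (y : ℕ) : List (ℕ × ℤ × ℕ) :=
  (y, 1, 0) :: (E.filter fun e => Nat.beq e.1 y).map fun e => (e.2.1, e.2.2, 1)

/-- A sorted monomial. -/
def sort3 (x y z : ℕ) : ℕ × ℕ × ℕ :=
  if x ≤ y then (if y ≤ z then (x, y, z) else if x ≤ z then (x, z, y) else (z, x, y))
  else (if x ≤ z then (y, x, z) else if y ≤ z then (y, z, x) else (z, y, x))

/-- A term of the substituted form. -/
abbrev Term := (ℕ × ℕ × ℕ) × ℕ × ℤ

/-- All terms of the substituted form. -/
def subTerms (M : List Mono) (E : Ents) : List Term :=
  M.flatMap fun m => (subC E m.1).flatMap fun p => (subC E m.2.1).flatMap fun q =>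
    (subC E m.2.2.1).map fun r => (sort3 p.1 q.1 r.1, p.2.2 + q.2.2 + r.2.2,
      m.2.2.2 * (p.2.1 * q.2.1 * r.2.1))

/-- Equality of keys of terms. -/
def keyEq (x y : Term) : Bool :=
  Nat.beq x.1.1 y.1.1 && Nat.beq x.1.2.1 y.1.2.1 && Nat.beq x.1.2.2 y.1.2.2 && Nat.beq x.2.1 y.2.1

/-- Insertion of a term. -/
def insT (x : Term) : List Term → List Term
  | [] => [x]
  | y :: L => cond (keyEq y x) ((x.1, x.2.1, x.2.2 + y.2.2) :: L) (y :: insT x L)

/-- The form is unchanged by the substitution. -/
def invForm (M : List Mono) (E : Ents) : Bool :=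
  ((((subTerms M E).filter fun x => decide (x.2.1 ≠ 0)).foldr insT []).all fun x =>
    decide (x.2.2 = 0))

/-! ### Checks on the roots -/

/-- The checks for one root with operators `E`, and `F` for its negative. -/
def rootOK (M : List Mono) (E F : Ents) : Bool :=
  wfE E && sameE (compE E E) [] && sameE (compE (compE E F) E) E && invForm M E

/-- The commutator of two operators is `c V`, and the cubic terms vanish. -/
def pairOK (E S V : Ents) (c : ℤ) : Bool :=
  let ES := compE E S
  sameE (ES ++ negE (compE S E)) (V.map fun x => (x.1, x.2.1, c * x.2.2)) &&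
    sameE (compE ES E) [] && sameE (compE S V) []

/-- The two operators commute. -/
def commOK (E S : Ents) : Bool := sameE (compE E S) (compE S E)

/-! ### Checks on the steps -/

/-- The operators `1 + E - F - E F - F E`. -/
def nList (E F : Ents) : Ents :=
  normE (compE (compE (oneE ++ E) (oneE ++ negE F)) (oneE ++ E))

/-- The column is empty. -/
def colFree (L : Ents) (a : ℕ) : Bool := L.all fun x => !Nat.beq x.2.1 a

/-- A root fixing the given basis vectors in both directions. -/
def fixesBoth (op : ℕ → Ents) (nr : ℕ) (neg : ℕ → ℕ) (A : List ℕ) (r : ℕ) : Bool :=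
  decide (r < nr) && decide (neg r < nr) && A.all fun a =>
    colFree (op r) a && colFree (op (neg r)) a

/-- A word of roots moves coordinate `d` to coordinate `b`. -/
def moveOK (op : ℕ → Ents) (nr : ℕ) (neg : ℕ → ℕ) (A : List ℕ) : ℕ → ℕ → List ℕ → Bool
  | d, b, [] => decide (d = b)
  | d, b, r :: w =>
    fixesBoth op nr neg A r &&
      match (nList (op r) (op (neg r))).filter fun x => Nat.beq x.2.1 d with
      | [(y, _, _)] =>
        (match (nList (op r) (op (neg r))).filter fun x => Nat.beq x.1 y with
          | [(_, x', s)] => decide (x' = d ∧ s * s = 1)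
          | _ => false) && moveOK op nr neg A y b w
      | _ => false

/-- The exponent by which the torus of a root acts on a basis vector. -/
def expo (op : ℕ → Ents) (neg : ℕ → ℕ) (r a : ℕ) : Option ℤ :=
  match (normE (compE (op r) (op (neg r)))).filter (fun x => Nat.beq x.2.1 a),
    (normE (compE (op (neg r)) (op r))).filter (fun x => Nat.beq x.2.1 a) with
  | [], [] => some 0
  | [(y, _, 1)], [] => if y = a then some 1 else none
  | [], [(y, _, 1)] => if y = a then some (-1) else none
  | _, _ => none

/-- The exponent of a product of tori. -/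
def expoSum (op : ℕ → Ents) (neg : ℕ → ℕ) (a : ℕ) : List (ℕ × ℤ) → Option ℤ
  | [] => some 0
  | (r, l) :: w =>
    match expo op neg r a, expoSum op neg a w with
    | some e, some s => some (l * e + s)
    | _, _ => none

/-- The check of one step, given the basis vectors already fixed. -/
def stepOK (M : List Mono) (op : ℕ → Ents) (nr : ℕ) (neg : ℕ → ℕ) (tor : List ℕ) (A : List ℕ)
    (st : Step) : Bool :=
  let P := perms6 M
  let G := rots3 M
  let Zs := st.zero.map Prod.fst
  let Ks := st.kill.map Prod.fst
  decide (st.b < 27 ∧ st.b ∉ A) &&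
  (st.zero.all fun z => decide (z.2.1 ∈ A) &&
    match pick12 P z.2.1 z.2.2 with
    | [(_, _, d, s)] => decide (d = z.1 ∧ s * s = 1) &&
        ((decide (z.2.2 ∈ A) && decide (d ≠ st.b)) ||
          (pick1 P z.2.1).all fun m => !Nat.beq m.2.2.1 st.b)
    | _ => false) &&
  (st.kill.all fun k => decide (k.2 < nr) && (A.all fun a => colFree (op k.2) a) &&
    match (op k.2).filter fun x => decide (x.1 ∈ st.b :: Ks) with
    | [(y, x, s)] => decide (y = k.1 ∧ x = st.b ∧ s * s = 1)
    | _ => false) &&
  (st.opp.all fun o =>
    match (pick1 G o.2).filter fun m =>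
        !(decide (m.2.1 ∈ Zs ++ Ks) || decide (m.2.2.1 ∈ Zs ++ Ks)) with
    | [(_, y, z, s)] => decide (((y = st.b ∧ z = o.1) ∨ (y = o.1 ∧ z = st.b)) ∧ s * s = 1)
    | _ => false) &&
  decide (Ks.Nodup ∧ st.b ∉ Ks) &&
  ((List.range 27).all fun d => decide (d = st.b ∨ d ∈ Zs ∨ d ∈ Ks ∨ d ∈ st.opp.map Prod.fst)) &&
  match st.mode with
  | .forced a a' => decide (a ∈ A ∧ a' ∈ A) &&
    (match pick12 P a a' with
      | [(_, _, d, s)] => decide (d = st.b ∧ s * s = 1)
      | _ => false)
  | .free wit move lam =>
    let ls := tor.zip lam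
    let ms := move.map Prod.fst
    (move.all fun mv => moveOK op nr neg A mv.1 st.b mv.2) &&
    (ls.all fun x => decide (x.1 < nr ∧ neg x.1 < nr)) &&
    (A.all fun a => decide (expoSum op neg a ls = some 0)) &&
    decide (expoSum op neg st.b ls = some 1) &&
    match wit with
    | none => (List.range 27).all fun d => decide (d ∈ A ∨ d ∈ Zs ∨ d ∈ ms)
    | some a => decide (a ∈ A) &&
      ((pick1 P a).all fun m => decide (m.2.2.1 ∈ A ∨ m.2.2.1 ∈ Zs ∨ m.2.2.1 ∈ ms)) &&
      (List.range 27).any fun e =>
        match pick12 P a e with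
        | [(_, _, d, s)] => decide (d = st.b ∧ s * s = 1)
        | _ => false

/-- The check of all steps, ending with every basis vector fixed. -/
def stepsOK (M : List Mono) (op : ℕ → Ents) (nr : ℕ) (neg : ℕ → ℕ) (tor : List ℕ) :
    List ℕ → List Step → Bool
  | A, [] => (List.range 27).all fun d => decide (d ∈ A)
  | A, st :: l => stepOK M op nr neg tor A st && stepsOK M op nr neg tor (st.b :: A) l

end CfsgLib.CubicE6
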