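import Cfsg.Agent.Lib.CubicE6.Root

/-!
Every isometry of the cubic form over a field with a third element is a product of root elements:
by the certified steps it is brought to fix one basis vector after the other.
-/

set_option autoImplicit false
set_option linter.unusedSectionVars false

namespace CfsgLib.CubicE6

open Cfsg.Lie Matrix

variable {K : Type*} [Field K]

theorem act_xEl (r : ℕ) (t : K) (v : I27 → K) :
    act (xEl r t) v = v + t • (op K r *ᵥ v) := by
  show ((xEl r t : GL I27 K) : Matrix I27 I27 K) *ᵥ v = _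
  rw [coe_xEl, onePlus, Matrix.add_mulVec, Matrix.one_mulVec, Matrix.smul_mulVec]

theorem act_smul (g : GL I27 K) (c : K) (v : I27 → K) : act g (c • v) = c • act g v :=
  Matrix.mulVec_smul _ _ _

theorem act_sub (g : GL I27 K) (u v : I27 → K) : act g (u - v) = act g u - act g v :=
  Matrix.mulVec_sub _ _ _

theorem act_sum {α : Type*} (g : GL I27 K) (s : Finset α) (f : α → I27 → K) :
    act g (∑ i ∈ s, f i) = ∑ i ∈ s, act g (f i) :=
  map_sum (Matrix.mulVecLin ((Units.coeHom (Matrix I27 I27 K)) g)) f s

theorem act_inj (g : GL I27 K) {u v : I27 → K} (h : act g u = act g v) : u = v := by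
  rw [← inv_act g u, h, inv_act]

theorem act_xEl_fix {r a : ℕ} (ha : a < 27) (h : colFree (ops r) a = true) (t : K) :
    act (xEl r t) (unit27 a) = unit27 a := by
  rw [act_xEl, op, mat_mulVec_col_free (ops_wf r) ha h, smul_zero, add_zero]

theorem perms6_lt : ∀ m ∈ perms6 monos, m.1 < 27 ∧ m.2.1 < 27 ∧ m.2.2.1 < 27 := by
  intro m hm
  simp only [perms6, List.mem_flatMap, List.mem_cons, List.not_mem_nil, or_false] at hm
  obtain ⟨x, hx, hm⟩ := hm
  obtain ⟨h1, h2, h3⟩ := monos_lt x hx
  rcases hm with rfl | rfl | rfl | rfl | rfl | rfl <;> simp only <;> omega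

theorem rots3_lt : ∀ m ∈ rots3 monos, m.1 < 27 ∧ m.2.1 < 27 ∧ m.2.2.1 < 27 := by
  intro m hm
  simp only [rots3, List.mem_flatMap, List.mem_cons, List.not_mem_nil, or_false] at hm
  obtain ⟨x, hx, hm⟩ := hm
  obtain ⟨h1, h2, h3⟩ := monos_lt x hx
  rcases hm with rfl | rfl | rfl <;> simp only <;> omega

theorem rots3_sqfree : ((rots3 monos).all fun m => decide (m.2.1 ≠ m.2.2.1)) = true := by
  decide +kernel

theorem unit_singular {b : ℕ} (hb : b < 27) (x : I27 → K) :
    triSum (rots3 monos) x (unit27 b) (unit27 b) = 0 := by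
  have h := rots3_sqfree
  simp only [List.all_eq_true, decide_eq_true_eq] at h
  refine List.sum_eq_zero fun z hz => ?_
  obtain ⟨m, hm, rfl⟩ := List.mem_map.1 hz
  obtain ⟨-, h2, h3⟩ := rots3_lt m hm
  rw [unit27_apply hb h2, unit27_apply hb h3]
  by_cases e : b = m.2.1
  · rw [if_pos e, if_neg fun e' : b = m.2.2.1 => h m hm (e ▸ e'), mul_zero, mul_zero]
  · rw [if_neg e]; ring

/-- An isometry fixing the basis vectors in a list. -/
structure Fixes (g : GL I27 K) (A : List ℕ) : Prop where
  iso : g ∈ E6univ K
  lt : ∀ a ∈ A, a < 27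
  fix : ∀ a ∈ A, act g (unit27 a) = unit27 a

theorem Fixes.mul {g x : GL I27 K} {A : List ℕ} (h : Fixes g A) (hx : x ∈ rootGrp K)
    (hfix : ∀ a ∈ A, act x (unit27 a) = unit27 a) : Fixes (x * g) A :=
  ⟨mul_mem (rootGrp_le hx) h.iso, h.lt, fun a ha => by rw [act_mul, h.fix a ha, hfix a ha]⟩

/-- What a check of a step says. -/
structure Spec (A : List ℕ) (st : Step) : Prop where
  ok : stepOK monos ops 72 chevE6.neg torRoots A st = true

namespace Spec

variable {A : List ℕ} {st : Step} (hs : Spec A st)
include hs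

theorem b_lt : st.b < 27 ∧ st.b ∉ A := by
  have h := hs.ok
  simp only [stepOK, Bool.and_eq_true, decide_eq_true_eq] at h
  exact h.1.1.1.1.1.1

variable {c : K} (hc0 : c ≠ 0) (hc1 : c ≠ 1)
include hc0 hc1

theorem zero_coord {g : GL I27 K} (hg : Fixes g A) :
    ∀ d ∈ st.zero.map Prod.fst, act g (unit27 st.b) (ix d) = 0 := by
  obtain ⟨hb, -⟩ := hs.b_lt
  have h := hs.ok
  simp only [stepOK, Bool.and_eq_true, decide_eq_true_eq, List.all_eq_true] at h
  have hz := h.1.1.1.1.1.2
  intro d hd
  obtain ⟨z, hzm, rfl⟩ := List.mem_map.1 hd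
  obtain ⟨haA, hz'⟩ := hz z hzm
  have ha := hg.lt _ haA
  split at hz'
  next x y d' s e =>
    simp only [Bool.and_eq_true, Bool.or_eq_true, decide_eq_true_eq, List.all_eq_true] at hz'
    obtain ⟨⟨hd', hs1⟩, hcase⟩ := hz'
    have hmem : ((x, y, d', s) : Mono) ∈ pick12 (perms6 monos) z.2.1 z.2.2 := by rw [e]; simp
    simp only [pick12, List.mem_filter, Bool.and_eq_true] at hmem
    obtain ⟨hP, hx, hy⟩ := hmem
    have he : z.2.2 < 27 := Nat.eq_of_beq_eq_true hy ▸ (perms6_lt _ hP).2.1
    have hpick : ∀ v : I27 → K, triSum (perms6 monos) (unit27 z.2.1) (unit27 z.2.2) v =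
        (s : K) * v (ix z.1) := fun v => by
      rw [triSum_unit_units _ ha he (fun m hm => ⟨(perms6_lt m hm).1, (perms6_lt m hm).2.1⟩), e]
      simp [hd']
    have hval : (s : K) * act g (unit27 st.b) (ix z.1) = 0 := by
      rw [← hpick]
      have hinv := tri_inv (M := monos) hc0 hc1 (mem_univ_iff.1 hg.iso)
      rcases hcase with ⟨heA, hne⟩ | hnone
      · calc _ = triSum (perms6 monos) (act g (unit27 z.2.1)) (act g (unit27 z.2.2))
              (act g (unit27 st.b)) := by rw [hg.fix _ haA, hg.fix _ heA]
          _ = _ := hinv _ _ _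
          _ = 0 := by
            rw [hpick, unit27_apply hb (hd' ▸ (perms6_lt _ hP).2.2),
              if_neg fun e' : st.b = z.1 => hne (hd'.trans e'.symm), mul_zero]
      · calc _ = triSum (perms6 monos) (act g (unit27 z.2.1))
              (act g (act g⁻¹ (unit27 z.2.2))) (act g (unit27 st.b)) := by
              rw [hg.fix _ haA, act_inv]
          _ = _ := hinv _ _ _
          _ = 0 := by
            rw [triSum_unit_left _ _ ha fun m hm => (perms6_lt m hm).1]
            refine List.sum_eq_zero fun w hw => ?_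
            obtain ⟨m, hm, rfl⟩ := List.mem_map.1 hw
            have h3 := (perms6_lt m (List.mem_of_mem_filter hm)).2.2
            have hne : st.b ≠ m.2.2.1 := fun e' => by
              have := hnone m hm
              rw [← e', Nat.beq_refl] at this
              exact Bool.noConfusion this
            rw [unit27_apply hb h3, if_neg hne, mul_zero, mul_zero]
    have hss : (s : K) * (s : K) = 1 := by rw [← Int.cast_mul, hs1, Int.cast_one]
    calc _ = ((s : K) * (s : K)) * act g (unit27 st.b) (ix z.1) := by rw [hss, one_mul]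
      _ = 0 := by rw [mul_assoc, hval, mul_zero]
  next => exact absurd hz' (by simp)

/-- Clearing all coordinates of the image but one. -/
theorem clean {g : GL I27 K} (hg : Fixes g A) (hne : act g (unit27 st.b) (ix st.b) ≠ 0) :
    ∃ x ∈ rootGrp K, (∀ a ∈ A, act x (unit27 a) = unit27 a) ∧
      act (x * g) (unit27 st.b) = act g (unit27 st.b) (ix st.b) • unit27 st.b := by
  obtain ⟨hb, -⟩ := hs.b_lt
  have h := hs.ok
  simp only [stepOK, Bool.and_eq_true, decide_eq_true_eq, List.all_eq_true, List.mem_range] at h
  obtain ⟨⟨⟨⟨⟨-, hkill⟩, hopp⟩, hnd, hbK⟩, hcover⟩, -⟩ := h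
  set f := act g (unit27 st.b) with hf
  have key : ∀ l : List (ℕ × ℕ), l ⊆ st.kill → (l.map Prod.fst).Nodup →
      ∃ x ∈ rootGrp K, (∀ a ∈ A, act x (unit27 a) = unit27 a) ∧
        act x f (ix st.b) = f (ix st.b) ∧ ∀ y ∈ st.kill.map Prod.fst,
          act x f (ix y) = if y ∈ l.map Prod.fst then 0 else f (ix y) := by
    intro l
    induction l with
    | nil => exact fun _ _ => ⟨1, one_mem _, fun a _ => act_one _, by rw [act_one],
        fun y _ => by rw [act_one]; simp⟩
    | cons k l ih =>
      intro hsub hnd'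
      obtain ⟨x, hx, hxA, hxb, hxy⟩ :=
        ih (fun z hz => hsub (List.mem_cons_of_mem _ hz)) (List.nodup_cons.1 hnd').2
      have hkm := hsub List.mem_cons_self
      obtain ⟨⟨hr, hcf⟩, hrow⟩ := hkill k hkm
      set S := st.b :: st.kill.map Prod.fst with hS
      split at hrow
      next y₀ x₀ s e =>
        simp only [decide_eq_true_eq] at hrow
        obtain ⟨rfl, rfl, hs1⟩ := hrow
        have hwf := ops_wf k.2
        have hk1 : k.1 < 27 ∧ st.b < 27 := wf_mem hwf (x := (k.1, st.b, s)) (List.mem_of_mem_filter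
          (show (k.1, st.b, s) ∈ (ops k.2).filter _ by rw [e]; exact List.mem_singleton_self _))
        have hsmem : ∀ y ∈ S, y < 27 → ∀ v : I27 → K, (op K k.2 *ᵥ v) (ix y) =
            if y = k.1 then (s : K) * v (ix st.b) else 0 := by
          intro y hy hy27 v
          rw [op, mat_mulVec_row hwf v hy27]
          have e2 : (ops k.2).filter (fun z => Nat.beq z.1 y) =
              ((ops k.2).filter fun z => decide (z.1 ∈ S)).filter (fun z => Nat.beq z.1 y) := by
            rw [List.filter_filter]
            refine List.filter_congr fun z _ => ?_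
            cases hzy : Nat.beq z.1 y with
            | false => rfl
            | true =>
              rw [Bool.true_and, eq_comm, decide_eq_true_eq, Nat.eq_of_beq_eq_true hzy]
              exact hy
          rw [e2, e, List.filter_singleton]
          cases hky : Nat.beq k.1 y with
          | true => rw [if_pos (Nat.eq_of_beq_eq_true hky).symm]; simp
          | false =>
            rw [if_neg fun e' : y = k.1 => by rw [e', Nat.beq_refl] at hky; exact Bool.noConfusion hky]
            simp
        set v := act x f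
        have hs2 : (s : K) * (s : K) = 1 := by rw [← Int.cast_mul, hs1, Int.cast_one]
        set t := -((s : K) * v (ix k.1)) / v (ix st.b) with ht
        refine ⟨xEl k.2 t * x, mul_mem (xEl_mem_rootGrp hr t) hx, fun a ha => ?_, ?_, fun y hy => ?_⟩
        · rw [act_mul, hxA a ha, act_xEl_fix (hg.lt a ha) (hcf a ha)]
        · rw [act_mul, act_xEl, Pi.add_apply, Pi.smul_apply, hsmem _ List.mem_cons_self hb,
            if_neg fun e' : st.b = k.1 => hbK (e' ▸ List.mem_map.2 ⟨k, hkm, rfl⟩), smul_zero,
            add_zero]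
          exact hxb
        · have hy27 : y < 27 := by
            obtain ⟨k', hk', rfl⟩ := List.mem_map.1 hy
            obtain ⟨⟨-, -⟩, hrow'⟩ := hkill k' hk'
            split at hrow'
            next y₁ x₁ s₁ e₁ =>
              simp only [decide_eq_true_eq] at hrow'
              have hm' := List.mem_of_mem_filter
                (show (y₁, x₁, s₁) ∈ (ops k'.2).filter _ by rw [e₁]; exact List.mem_singleton_self _)
              exact hrow'.1 ▸ (wf_mem (ops_wf k'.2) hm').1
            next => exact absurd hrow' (by simp)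
          rw [act_mul, act_xEl, Pi.add_apply, Pi.smul_apply,
            hsmem y (List.mem_cons_of_mem _ hy) hy27, List.map_cons]
          by_cases e' : y = k.1
          · subst e'
            rw [if_pos rfl, if_pos List.mem_cons_self, smul_eq_mul, ht]
            have hvb : v (ix st.b) ≠ 0 := by rw [hxb]; exact hne
            show v (ix k.1) +
              -((s : K) * v (ix k.1)) / v (ix st.b) * ((s : K) * v (ix st.b)) = 0
            field_simp
            linear_combination (-v (ix k.1)) * hs2
          · rw [if_neg e', smul_zero, add_zero]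
            refine (hxy y hy).trans ?_
            exact if_congr ⟨List.mem_cons_of_mem _, fun h => (List.mem_cons.1 h).resolve_left e'⟩
              rfl rfl
      next => exact absurd hrow (by simp)
  obtain ⟨x, hx, hxA, hxb, hxy⟩ := key st.kill (fun z hz => hz) hnd
  refine ⟨x, hx, hxA, ?_⟩
  have hg' := hg.mul hx hxA
  have hf' : act (x * g) (unit27 st.b) = act x f := act_mul _ _ _
  have hK : ∀ y ∈ st.zero.map Prod.fst ++ st.kill.map Prod.fst, act x f (ix y) = 0 := by
    intro y hy
    rcases List.mem_append.1 hy with hy | hy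
    · rw [← hf']; exact zero_coord hs hc0 hc1 hg' y hy
    · rw [hxy y hy, if_pos hy]
  have hwhite : ∀ w : I27 → K, triSum (rots3 monos) w (act x f) (act x f) = 0 := by
    intro w
    rw [← hf', ← act_inv (x * g) w, polar_inv hc0 hc1 (mem_univ_iff.1 hg'.iso), unit_singular hb]
  rw [hf']
  refine ext27 fun d hd => ?_
  rw [Pi.smul_apply, unit27_apply hb hd, smul_eq_mul]
  by_cases e : st.b = d
  · rw [if_pos e, mul_one, ← e, hxb]
  rw [if_neg e, mul_zero]
  rcases hcover d hd with h | h | h | h
  · exact absurd h.symm e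
  · exact hK d (List.mem_append_left _ h)
  · exact hK d (List.mem_append_right _ h)
  · obtain ⟨o, ho, rfl⟩ := List.mem_map.1 h
    have ho' := hopp o ho
    split at ho'
    next x₀ y₀ z₀ s e₀ =>
      simp only [decide_eq_true_eq] at ho'
      obtain ⟨hpair, hs1⟩ := ho'
      have hm₀ : (x₀, y₀, z₀, s) ∈ pick1 (rots3 monos) o.2 := List.mem_of_mem_filter
        (show (x₀, y₀, z₀, s) ∈ (pick1 (rots3 monos) o.2).filter _ by
          rw [e₀]; exact List.mem_singleton_self _)
      simp only [pick1, List.mem_filter] at hm₀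
      have he : o.2 < 27 := Nat.eq_of_beq_eq_true hm₀.2 ▸ (rots3_lt _ hm₀.1).1
      have hzero := hwhite (unit27 o.2)
      rw [triSum_unit_left _ _ he fun m hm => (rots3_lt m hm).1] at hzero
      have hsplit : ∀ L : List Mono, (L.map fun m => (m.2.2.2 : K) *
          (act x f (ix m.2.1) * act x f (ix m.2.2.1))).sum =
          ((L.filter fun m => !(decide (m.2.1 ∈ st.zero.map Prod.fst ++ st.kill.map Prod.fst) ||
            decide (m.2.2.1 ∈ st.zero.map Prod.fst ++ st.kill.map Prod.fst))).map fun m =>
              (m.2.2.2 : K) * (act x f (ix m.2.1) * act x f (ix m.2.2.1))).sum := by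
        intro L
        induction L with
        | nil => rfl
        | cons m L ih =>
          rw [List.map_cons, List.sum_cons, ih, List.filter_cons]
          by_cases g1 : m.2.1 ∈ st.zero.map Prod.fst ++ st.kill.map Prod.fst
          · rw [hK _ g1, zero_mul, mul_zero, zero_add, if_neg (by simp [g1])]
          by_cases g2 : m.2.2.1 ∈ st.zero.map Prod.fst ++ st.kill.map Prod.fst
          · rw [hK _ g2, mul_zero, mul_zero, zero_add, if_neg (by simp [g2])]
          rw [if_pos (by simp [g1, g2]), List.map_cons, List.sum_cons]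
      rw [hsplit, e₀, List.map_cons, List.map_nil, List.sum_cons, List.sum_nil, add_zero] at hzero
      have hss : (s : K) * (s : K) = 1 := by rw [← Int.cast_mul, hs1, Int.cast_one]
      have hprod : act x f (ix y₀) * act x f (ix z₀) = 0 := by
        linear_combination (s : K) * hzero - (act x f (ix y₀) * act x f (ix z₀)) * hss
      rcases hpair with ⟨rfl, rfl⟩ | ⟨rfl, rfl⟩
      · rw [hxb] at hprod; exact (mul_eq_zero.1 hprod).resolve_left hne
      · rw [hxb] at hprod; exact (mul_eq_zero.1 hprod).resolve_right hne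
    next => exact absurd ho' (by simp)

omit hs in
theorem move_spec {A : List ℕ} (hA : ∀ a ∈ A, a < 27) : ∀ (w : List ℕ) (d b : ℕ), d < 27 →
    moveOK ops 72 chevE6.neg A d b w = true → ∀ f : I27 → K, f (ix d) ≠ 0 →
      ∃ x ∈ rootGrp K, (∀ a ∈ A, act x (unit27 a) = unit27 a) ∧ act x f (ix b) ≠ 0
  | [], d, b, _, h, f, hf => by
    simp only [moveOK, decide_eq_true_eq] at h
    exact ⟨1, one_mem _, fun a _ => act_one _, by rw [act_one, ← h]; exact hf⟩
  | r :: w, d, b, hd, h, f, hf => by
    simp only [moveOK, Bool.and_eq_true] at h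
    obtain ⟨hfix, h⟩ := h
    simp only [fixesBoth, Bool.and_eq_true, decide_eq_true_eq, List.all_eq_true] at hfix
    obtain ⟨⟨hr, hr'⟩, hcf⟩ := hfix
    split at h
    next y c' s' e =>
      simp only [Bool.and_eq_true] at h
      obtain ⟨h1, h2⟩ := h
      split at h1
      next y' x' s e' =>
        simp only [decide_eq_true_eq] at h1
        obtain ⟨rfl, hs1⟩ := h1
        set n := xEl r (1 : K) * xEl (chevE6.neg r) (-1) * xEl r 1 with hn
        have hwf1 : wfE (oneE ++ ops r) = true := wfE_append wfE_one (ops_wf _)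
        have hwf2 : wfE (oneE ++ negE (ops (chevE6.neg r))) = true :=
          wfE_append wfE_one (wfE_neg (ops_wf _))
        have hwf : wfE (nList (ops r) (ops (chevE6.neg r))) = true :=
          wfE_norm (wfE_comp (wfE_comp hwf1 hwf2) hwf1)
        have hy : y < 27 := (wf_mem hwf (x := (y, c', s')) (List.mem_of_mem_filter
          (show (y, c', s') ∈ (nList (ops r) (ops (chevE6.neg r))).filter _ by
            rw [e]; exact List.mem_singleton_self _))).1
        have hmat : (n : Matrix I27 I27 K) = mat (nList (ops r) (ops (chevE6.neg r))) := by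
          rw [nList, mat_norm, mat_comp (wfE_comp hwf1 hwf2) hwf1, mat_comp hwf1 hwf2, mat_append,
            mat_append, mat_one, mat_neg, hn]
          simp only [Units.val_mul, coe_xEl, onePlus, op, one_smul, neg_smul]
        have hval : act n f (ix y) = (s : K) * f (ix x') := by
          show ((n : Matrix I27 I27 K) *ᵥ f) (ix y) = _
          rw [hmat, mat_mulVec_row hwf f hy, e']
          simp
        have hne : act n f (ix y) ≠ 0 := by
          rw [hval]
          refine mul_ne_zero (fun h0 => ?_) hf
          have hss : (s : K) * (s : K) = 1 := by rw [← Int.cast_mul, hs1, Int.cast_one]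
          rw [h0, mul_zero] at hss
          exact zero_ne_one hss
        obtain ⟨x, hx, hxA, hxb⟩ := move_spec hA w y b hy h2 (act n f) hne
        refine ⟨x * n, mul_mem hx (mul_mem (mul_mem (xEl_mem_rootGrp hr _) (xEl_mem_rootGrp hr' _))
          (xEl_mem_rootGrp hr _)), fun a ha => ?_, by rwa [act_mul]⟩
        rw [act_mul, hn, act_mul, act_mul, act_xEl_fix (hA a ha) (hcf a ha).1,
          act_xEl_fix (hA a ha) (hcf a ha).2, act_xEl_fix (hA a ha) (hcf a ha).1, hxA a ha]
      next => exact absurd h1 (by simp)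
    next => exact absurd h (by simp)

omit hs hc0 hc1 in
theorem expo_spec {r a : ℕ} (hr : r < 72) (ha : a < 27) {n : ℤ}
    (h : expo ops chevE6.neg r a = some n) {u : K} (hu : u ≠ 0) :
    act (hEl r u) (unit27 a) = u ^ n • unit27 a := by
  have hEF : wfE (normE (compE (ops r) (ops (chevE6.neg r)))) = true :=
    wfE_norm (wfE_comp (ops_wf _) (ops_wf _))
  have hFE : wfE (normE (compE (ops (chevE6.neg r)) (ops r))) = true :=
    wfE_norm (wfE_comp (ops_wf _) (ops_wf _))
  show ((hEl r u : GL I27 K) : Matrix I27 I27 K) *ᵥ unit27 a = _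
  rw [coe_hEl hr hu, Matrix.add_mulVec, Matrix.add_mulVec, Matrix.one_mulVec, Matrix.smul_mulVec,
    Matrix.smul_mulVec, op, op, ← mat_comp (ops_wf _) (ops_wf _), ← mat_comp (ops_wf _) (ops_wf _),
    ← mat_norm (compE (ops r) _), ← mat_norm (compE (ops (chevE6.neg r)) _),
    mat_mulVec_col_single hEF ha, mat_mulVec_col_single hFE ha]
  unfold expo at h
  have hone : ∀ y : ℕ, y = a → (fun i => if ix y = i then ((1 : ℤ) : K) else 0) =
      (unit27 a : I27 → K) := fun y hy => by
    subst hy; funext i; simp [unit27, Pi.single_apply, eq_comm]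
  split at h
  next e1 e2 =>
    obtain rfl := Option.some.inj h
    rw [e1, e2]
    ext i
    simp
  next y c' e1 e2 =>
    split_ifs at h with hy
    obtain rfl := Option.some.inj h
    rw [e1, e2]
    simp only [List.map_cons, List.map_nil, List.sum_cons, List.sum_nil, add_zero, hone y hy]
    ext i
    simp
    ring
  next y c' e1 e2 =>
    split_ifs at h with hy
    obtain rfl := Option.some.inj h
    rw [e1, e2]
    simp only [List.map_cons, List.map_nil, List.sum_cons, List.sum_nil, add_zero, hone y hy]
    ext i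
    simp
    ring
  next => exact absurd h (by simp)

omit hs hc0 hc1 in
theorem torus_spec {a : ℕ} (ha : a < 27) {u : K} (hu : u ≠ 0) : ∀ (ls : List (ℕ × ℤ)) (n : ℤ),
    (∀ x ∈ ls, x.1 < 72) → expoSum ops chevE6.neg a ls = some n →
      act ((ls.map fun x => hEl x.1 (u ^ x.2)).prod) (unit27 a) = u ^ n • unit27 a
  | [], n, _, h => by
    rw [expoSum, Option.some.injEq] at h
    rw [← h, List.map_nil, List.prod_nil, act_one, zpow_zero, one_smul]
  | (r, l) :: w, n, hl, h => by
    rw [expoSum] at h
    split at h
    next e s he hse =>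
      obtain rfl := Option.some.inj h
      rw [List.map_cons, List.prod_cons, act_mul,
        torus_spec ha hu w s (fun x hx => hl x (List.mem_cons_of_mem _ hx)) hse, act_smul,
        expo_spec (hl (r, l) List.mem_cons_self) ha he (zpow_ne_zero l hu), smul_smul,
        ← _root_.zpow_mul, ← zpow_add₀ hu, add_comm]
    next => exact absurd h (by simp)

theorem step {g : GL I27 K} (hg : Fixes g A) :
    ∃ x ∈ rootGrp K, Fixes (x * g) (st.b :: A) := by
  obtain ⟨hb, hbA⟩ := hs.b_lt
  have h := hs.ok
  simp only [stepOK, Bool.and_eq_true, decide_eq_true_eq] at h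
  have hmode := h.2
  suffices hmain : ∃ x ∈ rootGrp K, (∀ a ∈ A, act x (unit27 a) = unit27 a) ∧
      act (x * g) (unit27 st.b) = unit27 st.b by
    obtain ⟨x, hx, hxA, hxb⟩ := hmain
    have hg' := hg.mul hx hxA
    refine ⟨x, hx, hg'.iso, ?_, ?_⟩ <;> intro a ha <;> rcases List.mem_cons.1 ha with rfl | ha
    · exact hb
    · exact hg.lt a ha
    · exact hxb
    · exact hg'.fix a ha
  have hinv := fun {g : GL I27 K} (hg : Fixes g A) =>
    tri_inv (M := monos) hc0 hc1 (mem_univ_iff.1 hg.iso)
  split at hmode
  next a a' heq =>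
    simp only [Bool.and_eq_true, decide_eq_true_eq] at hmode
    obtain ⟨⟨haA, haA'⟩, hpick⟩ := hmode
    split at hpick
    next x₀ y₀ d s e =>
      simp only [decide_eq_true_eq] at hpick
      obtain ⟨rfl, hs1⟩ := hpick
      have hval : ∀ v : I27 → K, triSum (perms6 monos) (unit27 a) (unit27 a') v =
          (s : K) * v (ix st.b) := fun v => by
        rw [triSum_unit_units _ (hg.lt a haA) (hg.lt a' haA')
          (fun m hm => ⟨(perms6_lt m hm).1, (perms6_lt m hm).2.1⟩), e]
        simp
      have hone : ∀ {g : GL I27 K}, Fixes g A → act g (unit27 st.b) (ix st.b) = 1 := by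
        intro g hg
        have h1 := hinv hg (unit27 a) (unit27 a') (unit27 st.b)
        rw [hg.fix a haA, hg.fix a' haA', hval, hval, unit27_apply hb hb, if_pos rfl] at h1
        have hss : (s : K) * (s : K) = 1 := by rw [← Int.cast_mul, hs1, Int.cast_one]
        linear_combination (s : K) * h1 - (act g (unit27 st.b) (ix st.b) - 1) * hss
      obtain ⟨x, hx, hxA, hxb⟩ := clean hs hc0 hc1 hg (by rw [hone hg]; exact one_ne_zero)
      exact ⟨x, hx, hxA, by rw [hxb, hone hg, one_smul]⟩
    next => exact absurd hpick (by simp)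
  next wit move lam heq =>
    simp only [Bool.and_eq_true, decide_eq_true_eq, List.all_eq_true] at hmode
    obtain ⟨⟨⟨⟨hmove, hls⟩, hA0⟩, hb1⟩, hwit⟩ := hmode
    set f := act g (unit27 st.b) with hf
    set y : I27 → K := ∑ d ∈ A.toFinset, f (ix d) • unit27 d with hy
    have hgy : act g y = y := by
      rw [hy, act_sum]
      exact Finset.sum_congr rfl fun d hd => by rw [act_smul, hg.fix d (List.mem_toFinset.1 hd)]
    have hyv : ∀ d < 27, y (ix d) = if d ∈ A then f (ix d) else 0 := by
      intro d hd
      rw [hy, Finset.sum_apply]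
      split_ifs with hdA
      · rw [Finset.sum_eq_single d]
        · rw [Pi.smul_apply, unit27_apply hd hd, if_pos rfl, smul_eq_mul, mul_one]
        · intro z hz hne
          rw [Pi.smul_apply, unit27_apply (hg.lt z (List.mem_toFinset.1 hz)) hd, if_neg hne,
            smul_zero]
        · exact fun hn => absurd (List.mem_toFinset.2 hdA) hn
      · refine Finset.sum_eq_zero fun z hz => ?_
        rw [Pi.smul_apply, unit27_apply (hg.lt z (List.mem_toFinset.1 hz)) hd,
          if_neg fun e : z = d => hdA (e ▸ List.mem_toFinset.1 hz), smul_zero]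
    have hz0 := zero_coord hs hc0 hc1 hg
    have hex : ∃ mv ∈ move, f (ix mv.1) ≠ 0 ∧ mv.1 < 27 := by
      by_contra hno
      push Not at hno
      have hoff : ∀ d < 27, (d ∈ A ∨ d ∈ st.zero.map Prod.fst ∨ d ∈ move.map Prod.fst) →
          f (ix d) = y (ix d) := by
        intro d hd hcase
        rw [hyv d hd]
        by_cases hdA : d ∈ A
        · rw [if_pos hdA]
        rw [if_neg hdA]
        rcases hcase with h1 | h1 | h1
        · exact absurd h1 hdA
        · exact hz0 d h1
        · obtain ⟨mv, hmv, rfl⟩ := List.mem_map.1 h1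
          by_contra hne
          exact absurd hd (not_lt.2 (hno mv hmv hne))
      split at hwit
      next =>
        simp only [List.all_eq_true, decide_eq_true_eq, List.mem_range] at hwit
        have hfy : act g (unit27 st.b) = act g y := by
          rw [hgy]
          exact ext27 fun d hd => hoff d hd (hwit d hd)
        have := congrFun (act_inj g hfy) (ix st.b)
        rw [unit27_apply hb hb, if_pos rfl, hyv _ hb, if_neg hbA] at this
        exact one_ne_zero this
      next a =>
        simp only [Bool.and_eq_true, decide_eq_true_eq, List.all_eq_true, List.any_eq_true,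
          List.mem_range] at hwit
        obtain ⟨⟨haA, hz⟩, e, he, hpick⟩ := hwit
        split at hpick
        next x₀ y₀ d s ee =>
          simp only [decide_eq_true_eq] at hpick
          obtain ⟨rfl, hs1⟩ := hpick
          have h1 := hinv hg (unit27 a) (unit27 e) (unit27 st.b - y)
          rw [hg.fix a haA, act_sub, hgy, triSum_unit_units _ (hg.lt a haA) he
            (fun m hm => ⟨(perms6_lt m hm).1, (perms6_lt m hm).2.1⟩) (unit27 st.b - y), ee,
            triSum_unit_left _ _ (hg.lt a haA) fun m hm => (perms6_lt m hm).1] at h1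
          have hzero : ((pick1 (perms6 monos) a).map fun m => (m.2.2.2 : K) *
              (act g (unit27 e) (ix m.2.1) * (act g (unit27 st.b) - y) (ix m.2.2.1))).sum = 0 := by
            refine List.sum_eq_zero fun w hw => ?_
            obtain ⟨m, hm, rfl⟩ := List.mem_map.1 hw
            have h3 := (perms6_lt m (List.mem_of_mem_filter hm)).2.2
            rw [Pi.sub_apply, ← hf, hoff _ h3 (hz m hm), sub_self, mul_zero, mul_zero]
          rw [hzero] at h1
          simp only [List.map_cons, List.map_nil, List.sum_cons, List.sum_nil, add_zero,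
            Pi.sub_apply, unit27_apply hb hb, if_true, hyv _ hb, if_neg hbA, sub_zero, mul_one] at h1
          have hss : (s : K) * (s : K) = 1 := by rw [← Int.cast_mul, hs1, Int.cast_one]
          rw [← h1, mul_zero] at hss
          exact zero_ne_one hss
        next => exact absurd hpick (by simp)
    obtain ⟨mv, hmv, hne, hlt⟩ := hex
    obtain ⟨x₁, hx₁, hx₁A, hx₁b⟩ := move_spec hc0 hc1 hg.lt mv.2 mv.1 st.b hlt (hmove mv hmv) f hne
    have hg₁ := hg.mul hx₁ hx₁A
    rw [hf, ← act_mul] at hx₁b
    obtain ⟨x₂, hx₂, hx₂A, hx₂b⟩ := clean hs hc0 hc1 hg₁ hx₁b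
    set β := act (x₁ * g) (unit27 st.b) (ix st.b)
    set x₃ := ((torRoots.zip lam).map fun z => hEl z.1 (β⁻¹ ^ z.2)).prod with hx₃def
    have hu : β⁻¹ ≠ 0 := inv_ne_zero hx₁b
    have hl72 : ∀ z ∈ torRoots.zip lam, z.1 < 72 := fun z hz => (hls z hz).1
    have hx₃ : x₃ ∈ rootGrp K := Subgroup.list_prod_mem _ fun z hz => by
      obtain ⟨p, hp, rfl⟩ := List.mem_map.1 hz
      obtain ⟨h1, h2⟩ := hls p hp
      exact mul_mem (mul_mem (mul_mem (xEl_mem_rootGrp h1 _) (xEl_mem_rootGrp h2 _))
        (xEl_mem_rootGrp h1 _)) (mul_mem (mul_mem (xEl_mem_rootGrp h1 _) (xEl_mem_rootGrp h2 _))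
        (xEl_mem_rootGrp h1 _))
    refine ⟨x₃ * x₂ * x₁, mul_mem (mul_mem hx₃ hx₂) hx₁, fun a ha => ?_, ?_⟩
    · rw [act_mul, hx₁A a ha, act_mul, hx₂A a ha, torus_spec (hg.lt a ha) hu _ 0 hl72 (hA0 a ha),
        zpow_zero, one_smul]
    · rw [mul_assoc, mul_assoc, act_mul, hx₂b, act_smul, torus_spec hb hu _ 1 hl72 hb1, zpow_one,
        smul_smul, mul_inv_cancel₀ hx₁b, one_smul]

end Spec

/-- Every isometry is a product of root elements. -/
theorem mem_rootGrp_of_iso {c : K} (hc0 : c ≠ 0) (hc1 : c ≠ 1) :
    ∀ (l : List Step) (A : List ℕ), stepsOK monos ops 72 chevE6.neg torRoots A l = true →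
      ∀ g : GL I27 K, Fixes g A → g ∈ rootGrp K
  | [], A, h, g, hg => by
    simp only [stepsOK, List.all_eq_true, List.mem_range, decide_eq_true_eq] at h
    have hg1 : g = 1 := by
      apply Units.ext
      refine Matrix.ext fun i j => ?_
      obtain ⟨k, hk, rfl⟩ := ix_surj j
      have e := congrFun (hg.fix k (h k hk)) i
      rw [show act g (unit27 k) = fun i => (g : Matrix I27 I27 K) i (ix k) from
        funext fun i => by simp [act, unit27]] at e
      dsimp only at e
      rw [e, Units.val_one, unit27, Pi.single_apply, Matrix.one_apply]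
    rw [hg1]; exact one_mem _
  | st :: l, A, h, g, hg => by
    simp only [stepsOK, Bool.and_eq_true] at h
    obtain ⟨x, hx, hg'⟩ := Spec.step ⟨h.1⟩ hc0 hc1 hg
    have := mem_rootGrp_of_iso hc0 hc1 l (st.b :: A) h.2 _ hg'
    exact (Subgroup.mul_mem_cancel_left _ hx).1 this

theorem univ_le_rootGrp {c : K} (hc0 : c ≠ 0) (hc1 : c ≠ 1) : E6univ K ≤ rootGrp K := fun g hg =>
  mem_rootGrp_of_iso hc0 hc1 steps [] steps_ok g ⟨hg, by simp, by simp⟩

end CfsgLib.CubicE6
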