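import Cfsg.Agent.Lib.CubicE6.Descent
import Cfsg.Agent.Lib.ChevClassical.Final

/-!
The group of the cubic form modulo its centre as the Chevalley group of type E6.
-/

set_option autoImplicit false

namespace CfsgLib.CubicE6

open Cfsg.Lie Matrix

theorem single_check : CfsgLib.ChevClassical.singleCheck chevE6 = true := by decide +kernel

/-- Two roots whose elements do not commute, and a basis vector showing it. -/
theorem exists_noncomm : ∃ r < 72, ∃ s < 72, ∃ a < 27, ∃ y < 27,
    ((compE (ops r) (ops s)).filter fun x => Nat.beq x.2.1 a) = [(y, a, 1)] ∧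
      ((compE (ops s) (ops r)).filter fun x => Nat.beq x.2.1 a) = [] := by decide +kernel

variable {K : Type*} [Field K]

theorem hom_surjective {c : K} (hc0 : c ≠ 0) (hc1 : c ≠ 1) : Function.Surjective (hom (K := K)) := by
  rintro ⟨g, hg⟩
  obtain ⟨y, ⟨x, rfl⟩, hy⟩ := univ_le_rootGrp hc0 hc1 hg
  exact ⟨x, Subtype.ext hy⟩

theorem not_comm : ∃ x y : ↥(E6univ K), x * y ≠ y * x := by
  obtain ⟨r, hr, s, hs, a, ha, y, hy, h1, h2⟩ := exists_noncomm
  refine ⟨xU r 1, xU s 1, fun e => ?_⟩
  have e' := congrArg (fun z : ↥(E6univ K) => ((z : GL I27 K) : Matrix I27 I27 K)) e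
  simp only [Subgroup.coe_mul, coe_xU hr, coe_xU hs, Units.val_mul, coe_xEl, onePlus, one_smul,
    mul_add, add_mul, one_mul, mul_one] at e'
  have e'' : op K r * op K s = op K s * op K r :=
    add_left_cancel (a := 1 + op K r + op K s) (by rw [add_assoc (1 + op K r), e']; abel)
  rw [op, op, ← mat_comp (ops_wf _) (ops_wf _), ← mat_comp (ops_wf _) (ops_wf _)] at e''
  have := congrFun (congrArg (fun X : Matrix I27 I27 K => X *ᵥ unit27 a) e'') (ix y)
  simp only [mat_mulVec_col_single (wfE_comp (ops_wf _) (ops_wf _)) ha] at this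
  rw [h1, h2] at this
  simp at this

/-- The identification. -/
theorem exists_equiv [Fintype K] (hK : 3 ≤ Fintype.card K) :
    Nonempty (E6 K ≃* ↥(chevE6.group K)) := by
  classical
  obtain ⟨c, hc0, hc1⟩ : ∃ c : K, c ≠ 0 ∧ c ≠ 1 := by
    by_contra h
    push Not at h
    have hsub : (Finset.univ : Finset K) ⊆ {0, 1} := fun x _ => by
      by_cases e : x = 0
      · simp [e]
      · simp [h x e]
    have := Finset.card_le_card hsub
    rw [Finset.card_univ] at this
    have := Finset.card_le_two (a := (0 : K)) (b := 1)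
    omega
  have hD : chevE6 ∈ [chevG2, chevB2, chevD4, chevF4, chevE6, chevE7, chevE8] := by simp
  have hperf : commutator (chevE6.SteinbergGroup K) = ⊤ :=
    CfsgLib.ChevClassical.perfect_of_single hD single_check
  obtain ⟨θ, hθ, hker, -⟩ := Cfsg.Agent.S1077.result (K := K) chevE6 hD
  have hgperf : commutator ↥(chevE6.group K) = ⊤ := by
    have h1 := congrArg (Subgroup.map θ) hperf
    rw [commutator_def, Subgroup.map_commutator, Subgroup.map_top_of_surjective θ hθ] at h1
    exact h1
  obtain ⟨hsimp, -⟩ := CfsgLib.Chev.isSimple_group_of_perfect hD hgperf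
  have hφ := hom_surjective hc0 hc1
  set ψ := (QuotientGroup.mk' (Subgroup.center ↥(E6univ K))).comp (hom (K := K)) with hψd
  have hψ : Function.Surjective ψ := (QuotientGroup.mk'_surjective _).comp hφ
  have hmemψ : ∀ x, x ∈ ψ.ker ↔ hom x ∈ Subgroup.center ↥(E6univ K) := fun x => by
    rw [MonoidHom.mem_ker, hψd, MonoidHom.comp_apply, QuotientGroup.mk'_apply,
      QuotientGroup.eq_one_iff]
  have h1 : θ.ker ≤ ψ.ker := fun x hx => by
    rw [hker] at hx
    rw [hmemψ, Subgroup.mem_center_iff]
    intro y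
    obtain ⟨z, rfl⟩ := hφ y
    rw [← map_mul, ← map_mul, Subgroup.mem_center_iff.1 hx z]
  have h2 : ψ.ker ≠ ⊤ := by
    intro htop
    obtain ⟨x, y, hxy⟩ := not_comm (K := K)
    obtain ⟨a, rfl⟩ := hφ x
    exact hxy (Subgroup.mem_center_iff.1 ((hmemψ a).1 (htop ▸ Subgroup.mem_top a)) y).symm
  haveI : (ψ.ker.map θ).Normal := Subgroup.Normal.map inferInstance θ hθ
  have h3 : ψ.ker = θ.ker := by
    refine le_antisymm ?_ h1
    rcases hsimp.eq_bot_or_eq_top_of_normal (ψ.ker.map θ) inferInstance with h | h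
    · exact (Subgroup.map_eq_bot_iff _).1 h
    · exfalso
      apply h2
      rw [eq_top_iff]
      intro g _
      obtain ⟨x, hx, hxg⟩ := Subgroup.mem_map.1 (h ▸ Subgroup.mem_top (θ g))
      have h4 : x⁻¹ * g ∈ ψ.ker := h1 (by
        rw [MonoidHom.mem_ker, map_mul, map_inv, hxg, inv_mul_cancel])
      have := mul_mem hx h4
      rwa [mul_inv_cancel_left] at this
  exact ⟨((QuotientGroup.quotientKerEquivOfSurjective ψ hψ).symm.trans
    (QuotientGroup.quotientMulEquivOfEq h3)).trans
      (QuotientGroup.quotientKerEquivOfSurjective θ hθ)⟩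

end CfsgLib.CubicE6
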