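import Cfsg.Agent.Lib.CubicE6.Tables
import Cfsg.Prelude.Def_E6

/-!
The cubic form as a sum of monomials, its polarisations, and their invariance under the isometries
over fields with at least three elements.
-/

set_option autoImplicit false
set_option linter.unusedSectionVars false

namespace CfsgLib.CubicE6

open Cfsg.Lie Matrix

/-- The index with the given number. -/
def ix (k : ℕ) : I27 :=
  (⟨k / 9 % 3, Nat.mod_lt _ (by norm_num)⟩, ⟨k / 3 % 3, Nat.mod_lt _ (by norm_num)⟩,
    ⟨k % 3, Nat.mod_lt _ (by norm_num)⟩)

theorem ix_inj {a b : ℕ} (ha : a < 27) (hb : b < 27) (h : ix a = ix b) : a = b := by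
  simp only [ix, Prod.mk.injEq, Fin.mk.injEq] at h
  omega

theorem ix_surj (i : I27) : ∃ k < 27, ix k = i := by
  refine ⟨9 * i.1.1 + 3 * i.2.1.1 + i.2.2.1, by omega, ?_⟩
  simp only [ix, Prod.ext_iff, Fin.ext_iff]
  omega

variable {F : Type*}

section Ring

variable [CommRing F]

/-- The vector of a basis index. -/
def unit27 (k : ℕ) : I27 → F := Pi.single (ix k) 1

theorem unit27_apply {a b : ℕ} (ha : a < 27) (hb : b < 27) :
    (unit27 a : I27 → F) (ix b) = if a = b then 1 else 0 := by
  rw [unit27, Pi.single_apply]
  exact if_congr ⟨fun h => (ix_inj hb ha h).symm, fun h => by rw [h]⟩ rfl rfl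

theorem ext27 {u v : I27 → F} (h : ∀ k < 27, u (ix k) = v (ix k)) : u = v := by
  funext i
  obtain ⟨k, hk, rfl⟩ := ix_surj i
  exact h k hk

/-- A form given by monomials. -/
def formT (M : List Mono) (v : I27 → F) : F :=
  (M.map fun m => (m.2.2.2 : F) * (v (ix m.1) * v (ix m.2.1) * v (ix m.2.2.1))).sum

/-- A trilinear sum over a list of monomials. -/
def triSum (L : List Mono) (u w v : I27 → F) : F :=
  (L.map fun m => (m.2.2.2 : F) * (u (ix m.1) * w (ix m.2.1) * v (ix m.2.2.1))).sum

theorem cubicT_eq (v : I27 → F) : cubicT v = formT monos v := by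
  simp [cubicT, formT, monos, ix, Matrix.det_fin_three, mat3, Matrix.trace, Matrix.mul_apply,
    Fin.sum_univ_three]
  ring

theorem triSum_append (L L' : List Mono) (u w v : I27 → F) :
    triSum (L ++ L') u w v = triSum L u w v + triSum L' u w v := by simp [triSum]

theorem formT_add_smul (M : List Mono) (v w : I27 → F) (t : F) :
    formT M (v + t • w) = formT M v + t * triSum (rots3 M) w v v +
      t ^ 2 * triSum (rots3 M) v w w + t ^ 3 * formT M w := by
  induction M with
  | nil => simp [formT, triSum, rots3]
  | cons m M ih =>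
    simp only [formT, List.map_cons, List.sum_cons, rots3, List.flatMap_cons] at ih ⊢
    rw [triSum_append, triSum_append]
    rw [ih]
    simp only [triSum, List.map_cons, List.map_nil, List.sum_cons, List.sum_nil, Pi.add_apply,
      Pi.smul_apply, smul_eq_mul]
    ring

theorem triSum_perms6 (M : List Mono) (x u v : I27 → F) :
    triSum (perms6 M) x u v =
      triSum (rots3 M) x (u + v) (u + v) - triSum (rots3 M) x u u - triSum (rots3 M) x v v := by
  induction M with
  | nil => simp [triSum, perms6, rots3]
  | cons m M ih =>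
    simp only [perms6, rots3, List.flatMap_cons] at ih ⊢
    rw [triSum_append, triSum_append, triSum_append, triSum_append, ih]
    simp only [triSum, List.map_cons, List.map_nil, List.sum_cons, List.sum_nil, Pi.add_apply]
    ring

theorem triSum_unit_left (L : List Mono) (a : ℕ) (ha : a < 27) (hL : ∀ m ∈ L, m.1 < 27)
    (w v : I27 → F) : triSum L (unit27 a) w v =
      ((pick1 L a).map fun m => (m.2.2.2 : F) * (w (ix m.2.1) * v (ix m.2.2.1))).sum := by
  induction L with
  | nil => simp [triSum, pick1]
  | cons m L ih =>
    have ih' := ih fun x hx => hL x (List.mem_cons_of_mem _ hx)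
    simp only [triSum, List.map_cons, List.sum_cons, unit27_apply ha (hL m List.mem_cons_self)]
      at ih' ⊢
    rw [ih']
    simp only [pick1, List.filter_cons]
    by_cases h : a = m.1
    · simp [h]
    · rw [if_neg h, show Nat.beq m.1 a = false from Bool.eq_false_iff.2
        fun e => h (Nat.eq_of_beq_eq_true e).symm]
      simp

theorem triSum_unit_units (L : List Mono) {a e : ℕ} (ha : a < 27) (he : e < 27)
    (hL : ∀ m ∈ L, m.1 < 27 ∧ m.2.1 < 27) (v : I27 → F) :
    triSum L (unit27 a) (unit27 e) v =
      ((pick12 L a e).map fun m => (m.2.2.2 : F) * v (ix m.2.2.1)).sum := by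
  induction L with
  | nil => simp [triSum, pick12]
  | cons m L ih =>
    have ih' := ih fun x hx => hL x (List.mem_cons_of_mem _ hx)
    obtain ⟨h1, h2⟩ := hL m List.mem_cons_self
    simp only [triSum, List.map_cons, List.sum_cons, unit27_apply ha h1, unit27_apply he h2]
      at ih' ⊢
    rw [ih']
    simp only [pick12, List.filter_cons]
    by_cases h : a = m.1 ∧ e = m.2.1
    · simp [h.1, h.2]
    · have hz : (if a = m.1 then (1 : F) else 0) * (if e = m.2.1 then 1 else 0) = 0 := by
        by_cases g : a = m.1
        · rw [if_neg fun g' : e = m.2.1 => h ⟨g, g'⟩, mul_zero]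
        · rw [if_neg g, zero_mul]
      rw [hz, show (Nat.beq m.1 a && Nat.beq m.2.1 e) = false from Bool.eq_false_iff.2 fun g => h (by
        rw [Bool.and_eq_true] at g
        exact ⟨(Nat.eq_of_beq_eq_true g.1).symm, (Nat.eq_of_beq_eq_true g.2).symm⟩)]
      simp

end Ring

section Field

variable [Field F]

/-- The natural action. -/
abbrev act (g : GL I27 F) (v : I27 → F) : I27 → F :=
  ((Units.coeHom (Matrix I27 I27 F)) g) *ᵥ v

theorem act_mul (g h : GL I27 F) (v : I27 → F) : act (g * h) v = act g (act h v) := by
  rw [act, map_mul, ← Matrix.mulVec_mulVec]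

theorem act_one (v : I27 → F) : act (1 : GL I27 F) v = v := by simp [act]

theorem act_inv (g : GL I27 F) (v : I27 → F) : act g (act g⁻¹ v) = v := by
  rw [← act_mul, mul_inv_cancel, act_one]

theorem inv_act (g : GL I27 F) (v : I27 → F) : act g⁻¹ (act g v) = v := by
  rw [← act_mul, inv_mul_cancel, act_one]

theorem mem_univ_iff {g : GL I27 F} :
    g ∈ E6univ F ↔ ∀ v, formT monos (act g v) = formT monos v := by
  constructor
  · intro h v; rw [← cubicT_eq, ← cubicT_eq]; exact h v
  · intro h v
    show cubicT (act g v) = cubicT v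
    rw [cubicT_eq, cubicT_eq]; exact h v

variable {M : List Mono} {g : GL I27 F}

/-- With a third field element, invariance of the form gives invariance of its polar. -/
theorem polar_inv {c : F} (hc0 : c ≠ 0) (hc1 : c ≠ 1) (h : ∀ v, formT M (act g v) = formT M v)
    (x v : I27 → F) :
    triSum (rots3 M) (act g x) (act g v) (act g v) = triSum (rots3 M) x v v := by
  have key : ∀ t : F, t * (triSum (rots3 M) (act g x) (act g v) (act g v) - triSum (rots3 M) x v v) +
      t ^ 2 * (triSum (rots3 M) (act g v) (act g x) (act g x) - triSum (rots3 M) v x x) = 0 := by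
    intro t
    have e := h (v + t • x)
    rw [show act g (v + t • x) = act g v + t • act g x by
      simp only [act, Matrix.mulVec_add, Matrix.mulVec_smul], formT_add_smul, formT_add_smul, h v,
      h x] at e
    linear_combination e
  have e1 := key 1
  have ec := key c
  have h0 : (c - c ^ 2) * (triSum (rots3 M) (act g x) (act g v) (act g v) -
      triSum (rots3 M) x v v) = 0 := by linear_combination ec - c ^ 2 * e1
  rcases mul_eq_zero.1 h0 with e | e
  · exact absurd (show c * (1 - c) = 0 by linear_combination e)
      (mul_ne_zero hc0 (sub_ne_zero.2 (Ne.symm hc1)))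
  · exact sub_eq_zero.1 e

theorem tri_inv {c : F} (hc0 : c ≠ 0) (hc1 : c ≠ 1) (h : ∀ v, formT M (act g v) = formT M v)
    (x u v : I27 → F) :
    triSum (perms6 M) (act g x) (act g u) (act g v) = triSum (perms6 M) x u v := by
  rw [triSum_perms6, triSum_perms6, show act g u + act g v = act g (u + v) from
    (Matrix.mulVec_add _ u v).symm, polar_inv hc0 hc1 h, polar_inv hc0 hc1 h,
    polar_inv hc0 hc1 h]

end Field

end CfsgLib.CubicE6
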