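import Cfsg.Agent.Lib.CubicE6.Form

/-!
Sparse matrices as matrices; the soundness of the checks; products of `1 + t E` for operators with
`E E = 0`.
-/

set_option autoImplicit false
set_option linter.unusedSectionVars false

namespace CfsgLib.CubicE6

open Cfsg.Lie Matrix

variable {F : Type*} [CommRing F]

/-- The matrix of one entry. -/
def entMat (x : ℕ × ℕ × ℤ) : Matrix I27 I27 F := Matrix.single (ix x.1) (ix x.2.1) (x.2.2 : F)

/-- The matrix of a sparse matrix. -/
def mat (L : Ents) : Matrix I27 I27 F := (L.map entMat).sum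

theorem mat_nil : (mat [] : Matrix I27 I27 F) = 0 := rfl

theorem mat_cons (x : ℕ × ℕ × ℤ) (L : Ents) : (mat (x :: L) : Matrix I27 I27 F) = entMat x + mat L := by
  simp [mat]

theorem mat_append (L L' : Ents) : (mat (L ++ L') : Matrix I27 I27 F) = mat L + mat L' := by
  simp [mat]

theorem mat_ins (x : ℕ × ℕ × ℤ) (L : Ents) :
    (mat (insE x L) : Matrix I27 I27 F) = entMat x + mat L := by
  induction L with
  | nil => simp [insE, mat]
  | cons y L ih =>
    cases h : (Nat.beq y.1 x.1 && Nat.beq y.2.1 x.2.1) with
    | false =>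
      rw [insE, h, cond_false, mat_cons, ih, mat_cons]
      abel
    | true =>
      rw [Bool.and_eq_true] at h
      have e1 := Nat.eq_of_beq_eq_true h.1
      have e2 := Nat.eq_of_beq_eq_true h.2
      rw [insE, show (Nat.beq y.1 x.1 && Nat.beq y.2.1 x.2.1) = true by rw [h.1, h.2]; rfl, cond_true,
        mat_cons, mat_cons, ← add_assoc]
      congr 1
      simp only [entMat, e1, e2, Int.cast_add]
      rw [Matrix.single_add]

theorem mat_norm (L : Ents) : (mat (normE L) : Matrix I27 I27 F) = mat L := by
  have h1 : ∀ M : Ents, (mat (M.filter fun x => decide (x.2.2 ≠ 0)) : Matrix I27 I27 F) = mat M := by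
    intro M
    induction M with
    | nil => rfl
    | cons y M ih =>
      by_cases h : y.2.2 = 0
      · rw [List.filter_cons_of_neg (by simp [h]), ih, mat_cons]
        simp [entMat, h]
      · rw [List.filter_cons_of_pos (by simp [h]), mat_cons, ih, mat_cons]
  rw [normE, h1]
  induction L with
  | nil => rfl
  | cons y L ih => rw [List.foldr_cons, mat_ins, ih, mat_cons]

theorem mat_neg (L : Ents) : (mat (negE L) : Matrix I27 I27 F) = -mat L := by
  induction L with
  | nil => simp [negE, mat]
  | cons y L ih =>
    rw [negE, List.map_cons, mat_cons, ← negE, ih, mat_cons, neg_add]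
    congr 1
    ext i j
    simp [entMat, Matrix.single_apply]
    split <;> simp

theorem mat_same {L L' : Ents} (h : sameE L L' = true) : (mat L : Matrix I27 I27 F) = mat L' := by
  have e := mat_norm (F := F) (L ++ negE L')
  rw [sameE] at h
  rw [List.isEmpty_iff.1 h, mat_nil, mat_append, mat_neg, eq_comm, ← sub_eq_add_neg, sub_eq_zero] at e
  exact e

theorem mat_scale (L : Ents) (c : ℤ) :
    (mat (L.map fun x => (x.1, x.2.1, c * x.2.2)) : Matrix I27 I27 F) = (c : F) • mat L := by
  induction L with
  | nil => simp [mat]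
  | cons y L ih =>
    rw [List.map_cons, mat_cons, ih, mat_cons, smul_add]
    congr 1
    simp [entMat, Matrix.smul_single]

theorem wf_mem {L : Ents} (h : wfE L = true) {x : ℕ × ℕ × ℤ} (hx : x ∈ L) : x.1 < 27 ∧ x.2.1 < 27 := by
  simp only [wfE, List.all_eq_true, Bool.and_eq_true, Nat.ble_eq] at h
  have := h x hx
  omega

theorem mat_comp {L L' : Ents} (hL : wfE L = true) (hL' : wfE L' = true) :
    (mat (compE L L') : Matrix I27 I27 F) = mat L * mat L' := by
  induction L with
  | nil => simp [compE, mat]
  | cons a L ih =>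
    have hL0 : wfE L = true := by
      simp only [wfE, List.all_cons, Bool.and_eq_true] at hL ⊢
      exact hL.2
    obtain ⟨-, ha⟩ := wf_mem hL List.mem_cons_self
    rw [compE, List.flatMap_cons, mat_append, ← compE, ih hL0, mat_cons, add_mul]
    congr 1
    clear ih hL hL0
    induction L' with
    | nil => simp [mat]
    | cons b L' ih =>
      have hL0 : wfE L' = true := by
        simp only [wfE, List.all_cons, Bool.and_eq_true] at hL' ⊢
        exact hL'.2
      obtain ⟨hb, -⟩ := wf_mem hL' List.mem_cons_self
      rw [List.flatMap_cons, mat_append, ih hL0, mat_cons, mul_add]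
      congr 1
      cases h : Nat.beq a.2.1 b.1 with
      | false =>
        rw [cond_false, mat_nil, entMat, entMat, Matrix.single_mul_single_of_ne]
        intro e
        have := ix_inj ha hb e
        rw [this, Nat.beq_refl] at h
        exact Bool.noConfusion h
      | true =>
        rw [cond_true, mat_cons, mat_nil, add_zero, entMat, entMat, entMat,
          Nat.eq_of_beq_eq_true h, Matrix.single_mul_single_same, Int.cast_mul]

theorem wfE_append {L L' : Ents} (h : wfE L = true) (h' : wfE L' = true) : wfE (L ++ L') = true := by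
  simp only [wfE, List.all_append, Bool.and_eq_true] at *
  exact ⟨h, h'⟩

theorem wfE_neg {L : Ents} (h : wfE L = true) : wfE (negE L) = true := by
  simp only [wfE, negE, List.all_map] at *
  exact h

theorem wfE_comp {L L' : Ents} (h : wfE L = true) (h' : wfE L' = true) :
    wfE (compE L L') = true := by
  simp only [wfE, List.all_eq_true, Bool.and_eq_true, Nat.ble_eq, compE, List.mem_flatMap] at *
  rintro x ⟨a, ha, b, hb, hx⟩
  cases hab : Nat.beq a.2.1 b.1 with
  | false => rw [hab, cond_false] at hx; exact absurd hx List.not_mem_nil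
  | true =>
    rw [hab, cond_true, List.mem_singleton] at hx
    subst hx
    exact ⟨(h a ha).1, (h' b hb).2⟩

theorem mem_insE {x z : ℕ × ℕ × ℤ} {L : Ents} (h : z ∈ insE x L) :
    (z.1 = x.1 ∧ z.2.1 = x.2.1) ∨ z ∈ L := by
  induction L with
  | nil => simp only [insE, List.mem_singleton] at h; exact Or.inl (h ▸ ⟨rfl, rfl⟩)
  | cons y L ih =>
    rw [insE] at h
    cases hb : (Nat.beq y.1 x.1 && Nat.beq y.2.1 x.2.1) with
    | true =>
      rw [hb, cond_true, List.mem_cons] at h
      rcases h with rfl | h
      · exact Or.inl ⟨rfl, rfl⟩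
      · exact Or.inr (List.mem_cons_of_mem _ h)
    | false =>
      rw [hb, cond_false, List.mem_cons] at h
      rcases h with rfl | h
      · exact Or.inr List.mem_cons_self
      · exact (ih h).imp id (List.mem_cons_of_mem _)

theorem wfE_norm {L : Ents} (h : wfE L = true) : wfE (normE L) = true := by
  simp only [wfE, List.all_eq_true, Bool.and_eq_true, Nat.ble_eq, normE, List.mem_filter] at *
  rintro x ⟨hx, -⟩
  induction L generalizing x with
  | nil => exact absurd hx List.not_mem_nil
  | cons y L ih =>
    rw [List.foldr_cons] at hx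
    rcases mem_insE hx with ⟨e1, e2⟩ | h'
    · rw [e1, e2]; exact h y List.mem_cons_self
    · exact ih (fun z hz => h z (List.mem_cons_of_mem _ hz)) x h'

theorem wfE_one : wfE oneE = true := by decide

theorem mat_one : (mat oneE : Matrix I27 I27 F) = 1 := by
  have hlist : ∀ i j : I27, (mat oneE : Matrix I27 I27 F) i j =
      (oneE.map fun x => (entMat x : Matrix I27 I27 F) i j).sum := fun i j => by
    rw [mat]
    generalize oneE = L
    induction L with
    | nil => rfl
    | cons y L ih => rw [List.map_cons, List.sum_cons, Matrix.add_apply, ih, List.map_cons, List.sum_cons]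
  ext i j
  obtain ⟨a, ha, rfl⟩ := ix_surj i
  rw [hlist, oneE, List.map_map, ← List.sum_toFinset _ List.nodup_range, List.toFinset_range,
    Finset.sum_eq_single a]
  · simp [entMat, Matrix.single_apply, Matrix.one_apply]
  · intro b hb hne
    simp only [Function.comp_apply, entMat, Matrix.single_apply, Int.cast_one, ite_eq_right_iff]
    exact fun h => absurd (ix_inj (Finset.mem_range.1 hb) ha h.1) hne
  · intro h; exact absurd (Finset.mem_range.2 ha) h

theorem mat_mulVec (L : Ents) (v : I27 → F) (i : I27) :
    ((mat L : Matrix I27 I27 F) *ᵥ v) i =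
      (L.map fun x => if ix x.1 = i then (x.2.2 : F) * v (ix x.2.1) else 0).sum := by
  induction L with
  | nil => simp [mat]
  | cons y L ih =>
    rw [mat_cons, Matrix.add_mulVec, Pi.add_apply, ih, List.map_cons, List.sum_cons]
    congr 1
    simp [entMat, Matrix.mulVec, dotProduct, Matrix.single_apply, ite_and]

theorem mat_mulVec_row {L : Ents} (hL : wfE L = true) (v : I27 → F) {y : ℕ} (hy : y < 27) :
    ((mat L : Matrix I27 I27 F) *ᵥ v) (ix y) =
      ((L.filter fun x => Nat.beq x.1 y).map fun x => (x.2.2 : F) * v (ix x.2.1)).sum := by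
  rw [mat_mulVec]
  induction L with
  | nil => rfl
  | cons z L ih =>
    have hL0 : wfE L = true := by
      simp only [wfE, List.all_cons, Bool.and_eq_true] at hL ⊢
      exact hL.2
    obtain ⟨hz, -⟩ := wf_mem hL List.mem_cons_self
    rw [List.map_cons, List.sum_cons, ih hL0, List.filter_cons]
    cases h : Nat.beq z.1 y with
    | true => rw [if_pos (by rw [Nat.eq_of_beq_eq_true h]), if_pos rfl, List.map_cons, List.sum_cons]
    | false =>
      rw [if_neg (fun e => by rw [ix_inj hz hy e, Nat.beq_refl] at h; exact Bool.noConfusion h),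
        if_neg (by simp), zero_add]

theorem mat_mulVec_col_free {L : Ents} (hL : wfE L = true) {a : ℕ} (ha : a < 27)
    (h : colFree L a = true) : (mat L : Matrix I27 I27 F) *ᵥ unit27 a = 0 := by
  funext i
  rw [mat_mulVec, Pi.zero_apply]
  refine List.sum_eq_zero fun z hz => ?_
  obtain ⟨x, hx, rfl⟩ := List.mem_map.1 hz
  simp only [colFree, List.all_eq_true] at h
  have hne : a ≠ x.2.1 := fun e => by
    have := h x hx
    rw [← e, Nat.beq_refl] at this
    exact Bool.noConfusion this
  rw [unit27_apply ha (wf_mem hL hx).2, if_neg hne, mul_zero, ite_self]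

theorem mat_mulVec_col_single {L : Ents} (hL : wfE L = true) {a : ℕ} (ha : a < 27) :
    (mat L : Matrix I27 I27 F) *ᵥ unit27 a = fun i =>
      ((L.filter fun x => Nat.beq x.2.1 a).map fun x => if ix x.1 = i then (x.2.2 : F) else 0).sum := by
  funext i
  rw [mat_mulVec]
  induction L with
  | nil => rfl
  | cons z L ih =>
    have hL0 : wfE L = true := by
      simp only [wfE, List.all_cons, Bool.and_eq_true] at hL ⊢
      exact hL.2
    obtain ⟨-, hz⟩ := wf_mem hL List.mem_cons_self
    rw [List.map_cons, List.sum_cons, ih hL0, List.filter_cons, unit27_apply ha hz]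
    cases h : Nat.beq z.2.1 a with
    | true =>
      rw [if_pos (Nat.eq_of_beq_eq_true h).symm, if_pos rfl, List.map_cons, List.sum_cons, mul_one]
    | false =>
      rw [if_neg (fun e : a = z.2.1 => by rw [← e, Nat.beq_refl] at h; exact Bool.noConfusion h),
        if_neg (by simp : ¬ (false = true)), mul_zero, ite_self, zero_add]

section Alg

variable {A : Type*} [Ring A] [Algebra F A]

/-- `1 + t E`. -/
def onePlus (E : A) (t : F) : A := 1 + t • E

theorem onePlus_zero (E : A) : onePlus E (0 : F) = 1 := by simp [onePlus]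

theorem onePlus_mul {E : A} (h : E * E = 0) (t u : F) :
    onePlus E t * onePlus E u = onePlus E (t + u) := by
  simp only [onePlus, mul_add, add_mul, one_mul, mul_one, smul_mul_assoc, mul_smul_comm, h,
    smul_zero, add_zero, add_smul]
  abel

theorem onePlus_comm {E S : A} (h : E * S = S * E) (t u : F) :
    onePlus E t * onePlus S u = onePlus S u * onePlus E t := by
  simp only [onePlus, mul_add, add_mul, one_mul, mul_one, smul_mul_assoc, mul_smul_comm, h]
  module

theorem onePlus_commutator {E S V : A} {c : F} (hEE : E * E = 0) (hSS : S * S = 0)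
    (hc : E * S - S * E = c • V) (hESE : E * S * E = 0) (hSV : S * V = 0) (t u : F) :
    onePlus S (-u) * onePlus E (-t) * onePlus S u * onePlus E t = onePlus V (c * -t * u) := by
  have h1 : onePlus E (-t) * onePlus S u * onePlus E t = 1 + u • S - (t * u) • (E * S - S * E) := by
    simp only [onePlus, mul_add, add_mul, one_mul, mul_one, smul_mul_assoc, mul_smul_comm,
      smul_smul, neg_smul, neg_mul, hEE, hESE, smul_zero, smul_add, smul_sub]
    module
  rw [mul_assoc, mul_assoc, ← mul_assoc (onePlus E (-t)), h1, hc]
  simp only [onePlus, mul_add, add_mul, one_mul, mul_one, mul_sub, smul_mul_assoc, mul_smul_comm,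
    smul_smul, neg_smul, neg_mul, hSS, hSV, smul_zero, neg_zero]
  module

/-- `n(t) = x(t) y(-1/t) x(t)`. -/
theorem onePlus_n {E G : A} (hEE : E * E = 0) (hEGE : E * G * E = E) {t : F} {s : F}
    (hts : t * s = 1) :
    onePlus E t * onePlus G (-s) * onePlus E t = 1 + t • E - s • G - E * G - G * E := by
  simp only [onePlus, mul_add, add_mul, one_mul, mul_one, smul_mul_assoc, mul_smul_comm,
    smul_smul, neg_smul, neg_mul, mul_neg, hEE, hEGE, smul_zero, smul_add, smul_neg, hts,
    mul_comm s t, one_smul]
  module

/-- The element acting on the two-dimensional blocks as `diag (t, 1/t)`. -/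
theorem onePlus_h {E G : A} (hEE : E * E = 0) (hGG : G * G = 0) (hEGE : E * G * E = E)
    (hGEG : G * E * G = G) {t s : F} (hts : t * s = 1) :
    onePlus E t * onePlus G (-s) * onePlus E t * (onePlus E (-1 : F) * onePlus G (1 : F) * onePlus E (-1 : F)) =
      1 + (t - 1) • (E * G) + (s - 1) • (G * E) := by
  have h2 : onePlus E (-1 : F) * onePlus G (1 : F) * onePlus E (-1 : F) =
      1 + (-1 : F) • E - (-1 : F) • G - E * G - G * E := by
    have := onePlus_n (F := F) (A := A) (G := G) (t := (-1 : F)) (s := (-1 : F)) hEE hEGE (by ring)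
    simpa only [neg_neg] using this
  rw [onePlus_n hEE hEGE hts, h2]
  have a1 : E * (E * G) = 0 := by rw [← mul_assoc, hEE, zero_mul]
  have a2 : E * (G * E) = E := by rw [← mul_assoc, hEGE]
  have a3 : G * (E * G) = G := by rw [← mul_assoc, hGEG]
  have a4 : G * (G * E) = 0 := by rw [← mul_assoc, hGG, zero_mul]
  have a5 : E * G * (E * G) = E * G := by rw [← mul_assoc, hEGE]
  have a6 : E * G * (G * E) = 0 := by rw [mul_assoc, a4, mul_zero]
  have a7 : G * E * (E * G) = 0 := by rw [mul_assoc, a1, mul_zero]
  have a8 : G * E * (G * E) = G * E := by rw [← mul_assoc, hGEG]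
  have a9 : E * G * G = 0 := by rw [mul_assoc, hGG, mul_zero]
  have a10 : G * E * E = 0 := by rw [mul_assoc, hEE, mul_zero]
  simp only [mul_add, add_mul, mul_sub, sub_mul, one_mul, mul_one, smul_mul_assoc, mul_smul_comm,
    hEE, hGG, hEGE, hGEG, a1, a2, a3, a4, a5, a6, a7, a8, a9, a10, smul_zero]
  module

theorem diag_mul {P Q : A} (hP : P * P = P) (hQ : Q * Q = Q) (hPQ : P * Q = 0) (hQP : Q * P = 0)
    (a b a' b' : F) :
    (1 + (a - 1) • P + (b - 1) • Q) * (1 + (a' - 1) • P + (b' - 1) • Q) =
      1 + (a * a' - 1) • P + (b * b' - 1) • Q := by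
  simp only [mul_add, add_mul, one_mul, mul_one, smul_mul_assoc, mul_smul_comm, hP, hQ,
    hPQ, hQP, smul_zero]
  module

end Alg

end CfsgLib.CubicE6
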