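import Cfsg.Agent.Lib.CubicE6.Mat
import Cfsg.Agent.Lib.CubicE6.Cert

/-!
The root elements in twenty-seven dimensions: they preserve the form and satisfy the relations of
the presentation.
-/

set_option autoImplicit false
set_option linter.unusedSectionVars false

namespace CfsgLib.CubicE6

open Cfsg.Lie Matrix

theorem rootOK_spec {r : ℕ} (hr : r < 72) :
    chevE6.neg r < 72 ∧ wfE (ops r) = true ∧ sameE (compE (ops r) (ops r)) [] = true ∧
      sameE (compE (compE (ops r) (ops (chevE6.neg r))) (ops r)) (ops r) = true ∧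
      invForm monos (ops r) = true := by
  have h := roots_ok
  simp only [rootsOK, rootOK, List.all_eq_true, List.mem_range, Bool.and_eq_true,
    decide_eq_true_eq] at h
  obtain ⟨h1, ⟨⟨h2, h3⟩, h4⟩, h5⟩ := h r hr
  exact ⟨h1, h2, h3, h4, h5⟩

theorem neg_neg_ops : ∀ r < 72, chevE6.neg (chevE6.neg r) = r := by decide +kernel

theorem ops_wf (r : ℕ) : wfE (ops r) = true := by
  by_cases h : r < 72
  · exact (rootOK_spec h).2.1
  · rw [ops, List.getD_eq_default]
    · rfl
    · have : opsList.length = 72 := by rfl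
      omega

variable {F : Type*} [CommRing F]

/-- The operator of a root as a matrix. -/
def op (F : Type*) [CommRing F] (r : ℕ) : Matrix I27 I27 F := mat (ops r)

theorem op_sq (r : ℕ) : op F r * op F r = 0 := by
  by_cases h : r < 72
  · rw [op, ← mat_comp (ops_wf r) (ops_wf r), mat_same (rootOK_spec h).2.2.1, mat_nil]
  · rw [op, ops, List.getD_eq_default, mat_nil, zero_mul]
    have : opsList.length = 72 := by rfl
    omega

theorem op_neg_op {r : ℕ} (hr : r < 72) : op F r * op F (chevE6.neg r) * op F r = op F r := by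
  rw [op, op, ← mat_comp (ops_wf _) (ops_wf _), ← mat_comp (wfE_comp (ops_wf _) (ops_wf _)) (ops_wf _),
    mat_same (rootOK_spec hr).2.2.2.1]

theorem neg_op_neg {r : ℕ} (hr : r < 72) :
    op F (chevE6.neg r) * op F r * op F (chevE6.neg r) = op F (chevE6.neg r) := by
  have h := op_neg_op (F := F) (rootOK_spec hr).1
  rwa [neg_neg_ops r hr] at h

/-- The root element. -/
def xEl (r : ℕ) (t : F) : GL I27 F where
  val := onePlus (op F r) t
  inv := onePlus (op F r) (-t)
  val_inv := by rw [onePlus_mul (op_sq r), add_neg_cancel, onePlus_zero]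
  inv_val := by rw [onePlus_mul (op_sq r), neg_add_cancel, onePlus_zero]

theorem xEl_inv (r : ℕ) (t : F) : (xEl r t)⁻¹ = xEl r (-t) := Units.ext rfl

theorem coe_xEl (r : ℕ) (t : F) : (xEl r t : Matrix I27 I27 F) = onePlus (op F r) t := rfl

theorem xEl_add (r : ℕ) (t u : F) : xEl r t * xEl r u = xEl r (t + u) :=
  Units.ext (onePlus_mul (op_sq r) t u)

theorem xEl_zero (r : ℕ) : xEl r (0 : F) = 1 := Units.ext (onePlus_zero _)

/-! ### Invariance of the form -/

/-- The value of a term. -/
def termVal (t : F) (v : I27 → F) (x : Term) : F :=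
  (x.2.2 : F) * (t ^ x.2.1 * (v (ix x.1.1) * v (ix x.1.2.1) * v (ix x.1.2.2)))

theorem sum_insT (t : F) (v : I27 → F) (x : Term) (L : List Term) :
    ((insT x L).map (termVal t v)).sum = termVal t v x + (L.map (termVal t v)).sum := by
  induction L with
  | nil => simp [insT]
  | cons y L ih =>
    rw [insT]
    cases h : keyEq y x with
    | false => rw [cond_false, List.map_cons, List.sum_cons, ih, List.map_cons, List.sum_cons]; ring
    | true =>
      simp only [keyEq, Bool.and_eq_true] at h
      obtain ⟨⟨⟨e1, e2⟩, e3⟩, e4⟩ := h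
      rw [cond_true, List.map_cons, List.sum_cons, List.map_cons, List.sum_cons, ← add_assoc]
      congr 1
      simp only [termVal, Int.cast_add, Nat.eq_of_beq_eq_true e1, Nat.eq_of_beq_eq_true e2,
        Nat.eq_of_beq_eq_true e3, Nat.eq_of_beq_eq_true e4]
      ring

theorem termVal_sort3 (t : F) (v : I27 → F) (x y z p : ℕ) (c : ℤ) :
    termVal t v (sort3 x y z, p, c) = (c : F) * (t ^ p * (v (ix x) * v (ix y) * v (ix z))) := by
  unfold sort3
  split_ifs <;> simp only [termVal] <;> ring

theorem subC_val (E : Ents) (hE : wfE E = true) {y : ℕ} (hy : y < 27) (t : F) (v : I27 → F) :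
    ((subC E y).map fun p => (p.2.1 : F) * (t ^ p.2.2 * v (ix p.1))).sum =
      ((onePlus (mat E) t : Matrix I27 I27 F) *ᵥ v) (ix y) := by
  rw [onePlus, Matrix.add_mulVec, Matrix.one_mulVec, Matrix.smul_mulVec, Pi.add_apply, Pi.smul_apply,
    mat_mulVec_row hE v hy, smul_eq_mul, subC, List.map_cons, List.sum_cons, List.map_map,
    Int.cast_one, one_mul, pow_zero, one_mul]
  congr 1
  generalize E.filter (fun e => Nat.beq e.1 y) = L
  induction L with
  | nil => simp
  | cons e L ih =>
    rw [List.map_cons, List.sum_cons, ih, List.map_cons, List.sum_cons, Function.comp_apply, pow_one]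
    ring

theorem sum_flatMap_val {α β : Type*} (L : List α) (f : α → List β) (g : β → F) :
    ((L.flatMap f).map g).sum = (L.map fun a => ((f a).map g).sum).sum := by
  induction L with
  | nil => rfl
  | cons a L ih => simp [ih]

theorem formT_onePlus (M : List Mono) (hM : ∀ m ∈ M, m.1 < 27 ∧ m.2.1 < 27 ∧ m.2.2.1 < 27)
    (E : Ents) (hE : wfE E = true) (t : F) (v : I27 → F) :
    formT M ((onePlus (mat E) t : Matrix I27 I27 F) *ᵥ v) =
      ((subTerms M E).map (termVal t v)).sum := by
  rw [subTerms, sum_flatMap_val, formT]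
  congr 1
  refine List.map_congr_left fun m hm => ?_
  obtain ⟨h1, h2, h3⟩ := hM m hm
  rw [← subC_val E hE h1, ← subC_val E hE h2, ← subC_val E hE h3, sum_flatMap_val]
  simp only [sum_flatMap_val, List.map_map, Function.comp_def, termVal_sort3]
  generalize subC E m.1 = A
  generalize subC E m.2.1 = B
  generalize subC E m.2.2.1 = C
  let f : ℕ × ℤ × ℕ → F := fun p => (p.2.1 : F) * (t ^ p.2.2 * v (ix p.1))
  have hprod : ∀ k : F, (A.map fun p => (B.map fun q => (C.map fun r =>
      k * (f p * f q * f r)).sum).sum).sum = k * ((A.map f).sum * (B.map f).sum * (C.map f).sum) := by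
    intro k
    simp only [List.sum_map_mul_left, List.sum_map_mul_right]
  rw [← hprod]
  refine congrArg List.sum (List.map_congr_left fun p _ => ?_)
  refine congrArg List.sum (List.map_congr_left fun q _ => ?_)
  refine congrArg List.sum (List.map_congr_left fun r _ => ?_)
  simp only [f, Int.cast_mul, pow_add]
  ring

theorem formT_invariant (M : List Mono) (hM : ∀ m ∈ M, m.1 < 27 ∧ m.2.1 < 27 ∧ m.2.2.1 < 27)
    (E : Ents) (hE : wfE E = true) (h : invForm M E = true) (t : F) (v : I27 → F) :
    formT M ((onePlus (mat E) t : Matrix I27 I27 F) *ᵥ v) = formT M v := by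
  have hzero : formT M v = ((subTerms M E).map (termVal (0 : F) v)).sum := by
    rw [← formT_onePlus M hM E hE, onePlus_zero, Matrix.one_mulVec]
  rw [formT_onePlus M hM E hE, hzero]
  set L := subTerms M E
  simp only [invForm, List.all_eq_true, decide_eq_true_eq] at h
  have h0 : ((L.filter fun x => decide (x.2.1 ≠ 0)).map (termVal t v)).sum = 0 := by
    have key : ∀ N : List Term, ((N.foldr insT []).map (termVal t v)).sum =
        (N.map (termVal t v)).sum := by
      intro N
      induction N with
      | nil => rfl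
      | cons y N ih => rw [List.foldr_cons, sum_insT, ih, List.map_cons, List.sum_cons]
    rw [← key]
    refine List.sum_eq_zero fun z hz => ?_
    obtain ⟨x, hx, rfl⟩ := List.mem_map.1 hz
    simp [termVal, h x hx]
  have hsplit : ∀ N : List Term, (N.map (termVal t v)).sum =
      (N.map (termVal (0 : F) v)).sum +
        ((N.filter fun x => decide (x.2.1 ≠ 0)).map (termVal t v)).sum := by
    intro N
    induction N with
    | nil => simp
    | cons y N ih =>
      rw [List.map_cons, List.sum_cons, ih, List.map_cons, List.sum_cons]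
      by_cases hy : y.2.1 = 0
      · rw [List.filter_cons_of_neg (by simp [hy]),
          show termVal t v y = termVal (0 : F) v y by simp [termVal, hy]]
        ring
      · rw [List.filter_cons_of_pos (by simp [hy]), List.map_cons, List.sum_cons,
          show termVal (0 : F) v y = 0 by simp [termVal, hy]]
        ring
  rw [hsplit, h0, add_zero]

theorem monos_lt : ∀ m ∈ monos, m.1 < 27 ∧ m.2.1 < 27 ∧ m.2.2.1 < 27 := by
  have h := monos_wf
  simp only [List.all_eq_true, decide_eq_true_eq] at h
  exact h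

variable {K : Type*} [Field K]

theorem xEl_mem {r : ℕ} (hr : r < 72) (t : K) : xEl r t ∈ E6univ K :=
  mem_univ_iff.2 fun v => formT_invariant monos monos_lt (ops r) (ops_wf r) (rootOK_spec hr).2.2.2.2 t v

/-- The root element in the group of the form. -/
def xU (r : ℕ) (t : K) : ↥(E6univ K) :=
  if h : r < 72 then ⟨xEl r t, xEl_mem h t⟩ else 1

theorem coe_xU {r : ℕ} (hr : r < 72) (t : K) : (xU r t : GL I27 K) = xEl r t := by
  rw [xU, dif_pos hr]

/-- The generators of the presented group sent to root elements. -/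
def genMap (p : Fin chevE6.nroots × K) : ↥(E6univ K) := xU p.1.1 p.2

theorem nroots_eq : chevE6.nroots = 72 := rfl

theorem lift_stX {r : ℕ} (hr : r < 72) (t : K) :
    ((FreeGroup.lift genMap (chevE6.stX r t) : ↥(E6univ K)) : GL I27 K) = xEl r t := by
  rw [ChevalleyDatum.stX, dif_pos (nroots_eq ▸ hr), FreeGroup.lift_apply_of]
  exact coe_xU hr t

theorem xEl_comm {r s : ℕ} (hr : r < 72) (hs : s < 72) (h1 : s ≠ r) (h2 : s ≠ chevE6.neg r)
    (t u : F) :
    (xEl s u)⁻¹ * (xEl r t)⁻¹ * xEl s u * xEl r t =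
      (((chevE6.commTerms r s).map fun c => (c.1, (c.2.1 : F) * (-t) ^ c.2.2.1 * u ^ c.2.2.2)).map
        fun p => xEl p.1 p.2).prod ∧ ∀ c ∈ chevE6.commTerms r s, c.1 < 72 := by
  have h := pairs_ok
  simp only [pairsOK, List.all_eq_true, List.mem_range, Bool.or_eq_true, decide_eq_true_eq] at h
  have h' := (h r hr s hs).resolve_left (fun e => e.elim h1 h2)
  split at h'
  next e =>
    rw [e]
    refine ⟨?_, by simp⟩
    apply Units.ext
    simp only [Units.val_mul, xEl_inv, coe_xEl, List.map_nil, List.prod_nil, Units.val_one]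
    have hcm : op F r * op F s = op F s * op F r := by
      rw [op, op, ← mat_comp (ops_wf _) (ops_wf _), ← mat_comp (ops_wf _) (ops_wf _), mat_same h']
    rw [mul_assoc (onePlus (op F s) (-u)), onePlus_comm hcm, mul_assoc, mul_assoc,
      onePlus_mul (op_sq r), neg_add_cancel, onePlus_zero, mul_one, onePlus_mul (op_sq s),
      neg_add_cancel, onePlus_zero]
  next v c e =>
    simp only [pairOK, Bool.and_eq_true, decide_eq_true_eq] at h'
    obtain ⟨hv, ⟨hc, hESE⟩, hSV⟩ := h'
    rw [e]
    refine ⟨?_, by simpa using hv⟩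
    apply Units.ext
    simp only [Units.val_mul, xEl_inv, coe_xEl, List.map_cons, List.map_nil, List.prod_cons,
      List.prod_nil, mul_one, pow_one]
    refine onePlus_commutator (op_sq r) (op_sq s) ?_ ?_ ?_ t u
    · have e1 := mat_same (F := F) hc
      rw [mat_append, mat_neg, mat_comp (ops_wf _) (ops_wf _), mat_comp (ops_wf _) (ops_wf _),
        mat_scale, ← sub_eq_add_neg] at e1
      exact e1
    · have e1 := mat_same (F := F) hESE
      rw [mat_comp (wfE_comp (ops_wf _) (ops_wf _)) (ops_wf _), mat_comp (ops_wf _) (ops_wf _),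
        mat_nil] at e1
      exact e1
    · have e1 := mat_same (F := F) hSV
      rwa [mat_comp (ops_wf _) (ops_wf _), mat_nil] at e1
  next => exact absurd h' (by simp)

theorem lift_stWord {w : List (ℕ × K)} (hw : ∀ p ∈ w, p.1 < 72) :
    ((FreeGroup.lift genMap (chevE6.stWord w) : ↥(E6univ K)) : GL I27 K) =
      (w.map fun p => xEl p.1 p.2).prod := by
  induction w with
  | nil => simp [ChevalleyDatum.stWord]
  | cons p w ih =>
    rw [show chevE6.stWord (p :: w) = chevE6.stX p.1 p.2 * chevE6.stWord w by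
      simp [ChevalleyDatum.stWord], map_mul, Subgroup.coe_mul, lift_stX (hw p List.mem_cons_self),
      ih fun q hq => hw q (List.mem_cons_of_mem _ hq), List.map_cons, List.prod_cons]

/-- The element of the torus of a root. -/
def hEl (r : ℕ) (t : K) : GL I27 K :=
  xEl r t * xEl (chevE6.neg r) (-t⁻¹) * xEl r t * (xEl r (-1) * xEl (chevE6.neg r) 1 * xEl r (-1))

theorem coe_hEl {r : ℕ} (hr : r < 72) {t : K} (ht : t ≠ 0) :
    (hEl r t : Matrix I27 I27 K) = 1 + (t - 1) • (op K r * op K (chevE6.neg r)) +
      (t⁻¹ - 1) • (op K (chevE6.neg r) * op K r) := by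
  simp only [hEl, Units.val_mul, coe_xEl]
  exact onePlus_h (op_sq r) (op_sq _) (op_neg_op hr) (neg_op_neg hr) (mul_inv_cancel₀ ht)

theorem hEl_mul {r : ℕ} (hr : r < 72) {t u : K} (ht : t ≠ 0) (hu : u ≠ 0) :
    hEl r t * hEl r u = hEl r (t * u) := by
  apply Units.ext
  rw [Units.val_mul, coe_hEl hr ht, coe_hEl hr hu, coe_hEl hr (mul_ne_zero ht hu)]
  have hA := op_neg_op (F := K) hr
  have hB := neg_op_neg (F := K) hr
  rw [diag_mul, mul_inv]
  · rw [← mul_assoc, hA]
  · rw [← mul_assoc, hB]
  · rw [mul_assoc, ← mul_assoc (op K (chevE6.neg r)), op_sq, zero_mul, mul_zero]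
  · rw [mul_assoc, ← mul_assoc (op K r), op_sq, zero_mul, mul_zero]

theorem hWord_lt {r : ℕ} (hr : r < 72) (t : K) : ∀ p ∈ chevE6.hWord r t, p.1 < 72 := by
  intro p hp
  simp only [ChevalleyDatum.hWord, ChevalleyDatum.nWord, List.mem_append, List.mem_cons,
    List.not_mem_nil, or_false] at hp
  rcases hp with (rfl | rfl | rfl) | (rfl | rfl | rfl) <;>
    first | exact hr | exact (rootOK_spec hr).1

theorem prod_hWord (r : ℕ) (t : K) :
    ((chevE6.hWord r t).map fun p => xEl p.1 p.2).prod = hEl r t := by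
  simp [ChevalleyDatum.hWord, ChevalleyDatum.nWord, hEl, mul_assoc, inv_neg]

theorem lift_rels : ∀ g ∈ chevE6.steinbergRels K, FreeGroup.lift genMap g = 1 := by
  rintro g ((⟨r, t₁, t₂, hr, rfl⟩ | ⟨r, s, t, u, hr, hs, hsr, hneg, rfl⟩) |
    ⟨r, t₁, t₂, hr, h1, h2, rfl⟩) <;> apply Subtype.ext <;>
    simp only [map_mul, map_inv, Subgroup.coe_mul, InvMemClass.coe_inv, OneMemClass.coe_one]
  · rw [lift_stX hr, lift_stX hr, lift_stX hr, mul_inv_eq_one]
    exact xEl_add r t₁ t₂
  · obtain ⟨e, hlt⟩ := xEl_comm hr hs hsr hneg t u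
    rw [lift_stX hr, lift_stX hs, lift_stWord, e, ChevalleyDatum.commWord, mul_inv_cancel]
    intro p hp
    obtain ⟨c, hc, rfl⟩ := List.mem_map.1 hp
    exact hlt c hc
  · simp only [ChevalleyDatum.stH]
    rw [lift_stWord (hWord_lt hr _), lift_stWord (hWord_lt hr _), lift_stWord (hWord_lt hr _),
      prod_hWord, prod_hWord, prod_hWord, hEl_mul hr h1 h2, mul_inv_cancel]

/-- The homomorphism from the presented group. -/
noncomputable def hom : chevE6.SteinbergGroup K →* ↥(E6univ K) :=
  PresentedGroup.toGroup (f := genMap) lift_rels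

theorem hom_stGen {r : ℕ} (hr : r < 72) (t : K) :
    (hom (chevE6.stGen K r t) : GL I27 K) = xEl r t :=
  lift_stX hr t

/-- The subgroup generated by the root elements. -/
noncomputable def rootGrp (K : Type*) [Field K] : Subgroup (GL I27 K) :=
  (hom (K := K)).range.map (E6univ K).subtype

theorem xEl_mem_rootGrp {r : ℕ} (hr : r < 72) (t : K) : xEl r t ∈ rootGrp K :=
  ⟨hom (chevE6.stGen K r t), ⟨_, rfl⟩, hom_stGen hr t⟩

theorem rootGrp_le : rootGrp K ≤ E6univ K := by
  rintro _ ⟨x, -, rfl⟩
  exact x.2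

end CfsgLib.CubicE6
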