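import Cfsg.Agent.Lib.CubicE6.Check

/-!
Tables: the monomials of the cubic form, the root operators in twenty-seven dimensions, and the
certificates for moving an isometry to the identity.
-/

set_option autoImplicit false

namespace CfsgLib.CubicE6

/-- The monomials of the cubic form with their signs. -/
def monos : List (ℕ × ℕ × ℕ × ℤ) := [
  (0, 4, 8, 1), (0, 5, 7, -1), (1, 3, 8, -1), (1, 5, 6, 1), (2, 3, 7, 1),
  (2, 4, 6, -1), (9, 13, 17, 1), (9, 14, 16, -1), (10, 12, 17, -1), (10, 14, 15, 1),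
  (11, 12, 16, 1), (11, 13, 15, -1), (18, 22, 26, 1), (18, 23, 25, -1), (19, 21, 26, -1),
  (19, 23, 24, 1), (20, 21, 25, 1), (20, 22, 24, -1), (0, 9, 18, -1), (0, 10, 21, -1),
  (0, 11, 24, -1), (1, 12, 18, -1), (1, 13, 21, -1), (1, 14, 24, -1), (2, 15, 18, -1),
  (2, 16, 21, -1), (2, 17, 24, -1), (3, 9, 19, -1), (3, 10, 22, -1), (3, 11, 25, -1),
  (4, 12, 19, -1), (4, 13, 22, -1), (4, 14, 25, -1), (5, 15, 19, -1), (5, 16, 22, -1),
  (5, 17, 25, -1), (6, 9, 20, -1), (6, 10, 23, -1), (6, 11, 26, -1), (7, 12, 20, -1),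
  (7, 13, 23, -1), (7, 14, 26, -1), (8, 15, 20, -1), (8, 16, 23, -1), (8, 17, 26, -1)]

/-- The operators of the roots. -/
def opsList : List Ents := [
  [(6, 0, 1), (7, 1, 1), (8, 2, 1), (18, 20, -1), (21, 23, -1), (24, 26, -1)],
  [(5, 23, -1), (8, 22, 1), (10, 1, -1), (13, 0, 1), (18, 17, 1), (24, 15, -1)],
  [(5, 26, -1), (8, 25, 1), (11, 1, -1), (14, 0, 1), (18, 16, -1), (21, 15, 1)],
  [(5, 20, -1), (8, 19, 1), (9, 1, -1), (12, 0, 1), (21, 17, -1), (24, 16, 1)],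
  [(3, 0, -1), (4, 1, -1), (5, 2, -1), (18, 19, 1), (21, 22, 1), (24, 25, 1)],
  [(7, 15, 1), (8, 12, -1), (10, 26, 1), (11, 23, -1), (18, 3, 1), (19, 0, -1)],
  [(7, 17, -1), (8, 14, 1), (9, 23, -1), (10, 20, 1), (24, 3, -1), (25, 0, 1)],
  [(4, 23, -1), (7, 22, 1), (10, 2, 1), (16, 0, -1), (18, 14, 1), (24, 12, -1)],
  [(7, 16, 1), (8, 13, -1), (9, 26, -1), (11, 20, 1), (21, 3, 1), (22, 0, -1)],
  [(4, 26, -1), (7, 25, 1), (11, 2, 1), (17, 0, -1), (18, 13, -1), (21, 12, 1)],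
  [(4, 20, -1), (7, 19, 1), (9, 2, 1), (15, 0, -1), (21, 14, -1), (24, 13, 1)],
  [(2, 0, 1), (5, 3, 1), (8, 6, 1), (9, 15, -1), (10, 16, -1), (11, 17, -1)],
  [(4, 15, -1), (5, 12, 1), (10, 25, -1), (11, 22, 1), (18, 6, 1), (20, 0, -1)],
  [(4, 17, 1), (5, 14, -1), (9, 22, 1), (10, 19, -1), (24, 6, -1), (26, 0, 1)],
  [(4, 16, -1), (5, 13, 1), (9, 25, 1), (11, 19, -1), (21, 6, 1), (23, 0, -1)],
  [(1, 0, 1), (4, 3, 1), (7, 6, 1), (9, 12, -1), (10, 13, -1), (11, 14, -1)],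
  [(6, 15, 1), (8, 9, -1), (13, 26, -1), (14, 23, 1), (18, 4, -1), (19, 1, 1)],
  [(6, 17, -1), (8, 11, 1), (12, 23, 1), (13, 20, -1), (24, 4, 1), (25, 1, -1)],
  [(3, 23, -1), (6, 22, 1), (13, 2, -1), (16, 1, 1), (18, 11, 1), (24, 9, -1)],
  [(6, 16, 1), (8, 10, -1), (12, 26, 1), (14, 20, -1), (21, 4, -1), (22, 1, 1)],
  [(3, 26, -1), (6, 25, 1), (14, 2, -1), (17, 1, 1), (18, 10, -1), (21, 9, 1)],
  [(3, 20, -1), (6, 19, 1), (12, 2, -1), (15, 1, 1), (21, 11, -1), (24, 10, 1)],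
  [(6, 3, -1), (7, 4, -1), (8, 5, -1), (19, 20, 1), (22, 23, 1), (25, 26, 1)],
  [(6, 12, -1), (7, 9, 1), (16, 26, -1), (17, 23, 1), (18, 5, -1), (19, 2, 1)],
  [(6, 14, 1), (7, 11, -1), (15, 23, 1), (16, 20, -1), (24, 5, 1), (25, 2, -1)],
  [(6, 13, -1), (7, 10, 1), (15, 26, 1), (17, 20, -1), (21, 5, -1), (22, 2, 1)],
  [(2, 1, -1), (5, 4, -1), (8, 7, -1), (12, 15, 1), (13, 16, 1), (14, 17, 1)],
  [(3, 15, -1), (5, 9, 1), (13, 25, 1), (14, 22, -1), (18, 7, -1), (20, 1, 1)],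
  [(3, 17, 1), (5, 11, -1), (12, 22, -1), (13, 19, 1), (24, 7, 1), (26, 1, -1)],
  [(3, 16, -1), (5, 10, 1), (12, 25, -1), (14, 19, 1), (21, 7, -1), (23, 1, 1)],
  [(2, 23, 1), (8, 21, -1), (10, 4, -1), (13, 3, 1), (19, 17, 1), (25, 15, -1)],
  [(10, 9, 1), (13, 12, 1), (16, 15, 1), (18, 21, -1), (19, 22, -1), (20, 23, -1)],
  [(10, 11, -1), (13, 14, -1), (16, 17, -1), (24, 21, 1), (25, 22, 1), (26, 23, 1)],
  [(2, 26, -1), (8, 24, 1), (11, 4, 1), (14, 3, -1), (19, 16, 1), (22, 15, -1)],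
  [(11, 9, -1), (14, 12, -1), (17, 15, -1), (18, 24, 1), (19, 25, 1), (20, 26, 1)],
  [(2, 20, 1), (8, 18, -1), (9, 4, -1), (12, 3, 1), (22, 17, -1), (25, 16, 1)],
  [(3, 12, 1), (4, 9, -1), (16, 25, 1), (17, 22, -1), (18, 8, -1), (20, 2, 1)],
  [(9, 11, -1), (12, 14, -1), (15, 17, -1), (24, 18, 1), (25, 19, 1), (26, 20, 1)],
  [(3, 14, -1), (4, 11, 1), (15, 22, -1), (16, 19, 1), (24, 8, 1), (26, 2, -1)],
  [(11, 10, -1), (14, 13, -1), (17, 16, -1), (21, 24, 1), (22, 25, 1), (23, 26, 1)],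
  [(9, 10, 1), (12, 13, 1), (15, 16, 1), (21, 18, -1), (22, 19, -1), (23, 20, -1)],
  [(3, 13, 1), (4, 10, -1), (15, 25, -1), (17, 19, 1), (21, 8, -1), (23, 2, 1)],
  [(1, 23, 1), (7, 21, -1), (10, 5, 1), (16, 3, -1), (19, 14, 1), (25, 12, -1)],
  [(1, 26, -1), (7, 24, 1), (11, 5, -1), (17, 3, 1), (19, 13, 1), (22, 12, -1)],
  [(1, 20, 1), (7, 18, -1), (9, 5, 1), (15, 3, -1), (22, 14, -1), (25, 13, 1)],
  [(1, 2, -1), (4, 5, -1), (7, 8, -1), (15, 12, 1), (16, 13, 1), (17, 14, 1)],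
  [(2, 22, 1), (5, 21, -1), (10, 7, 1), (13, 6, -1), (20, 17, -1), (26, 15, 1)],
  [(2, 25, -1), (5, 24, 1), (11, 7, -1), (14, 6, 1), (20, 16, -1), (23, 15, 1)],
  [(2, 19, 1), (5, 18, -1), (9, 7, 1), (12, 6, -1), (23, 17, 1), (26, 16, -1)],
  [(3, 6, -1), (4, 7, -1), (5, 8, -1), (20, 19, 1), (23, 22, 1), (26, 25, 1)],
  [(1, 15, 1), (2, 12, -1), (10, 24, 1), (11, 21, -1), (19, 6, 1), (20, 3, -1)],
  [(1, 17, 1), (2, 14, -1), (9, 21, 1), (10, 18, -1), (25, 6, 1), (26, 3, -1)],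
  [(1, 22, 1), (4, 21, -1), (10, 8, -1), (16, 6, 1), (20, 14, -1), (26, 12, 1)],
  [(1, 16, 1), (2, 13, -1), (9, 24, -1), (11, 18, 1), (22, 6, 1), (23, 3, -1)],
  [(1, 25, -1), (4, 24, 1), (11, 8, 1), (17, 6, -1), (20, 13, -1), (23, 12, 1)],
  [(1, 19, 1), (4, 18, -1), (9, 8, -1), (15, 6, 1), (23, 14, 1), (26, 13, -1)],
  [(0, 1, 1), (3, 4, 1), (6, 7, 1), (12, 9, -1), (13, 10, -1), (14, 11, -1)],
  [(0, 23, -1), (6, 21, 1), (13, 5, 1), (16, 4, -1), (19, 11, -1), (25, 9, 1)],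
  [(0, 26, 1), (6, 24, -1), (14, 5, -1), (17, 4, 1), (19, 10, -1), (22, 9, 1)],
  [(0, 20, -1), (6, 18, 1), (12, 5, 1), (15, 4, -1), (22, 11, 1), (25, 10, -1)],
  [(0, 2, 1), (3, 5, 1), (6, 8, 1), (15, 9, -1), (16, 10, -1), (17, 11, -1)],
  [(0, 15, -1), (2, 9, 1), (13, 24, 1), (14, 21, -1), (19, 7, 1), (20, 4, -1)],
  [(0, 17, -1), (2, 11, 1), (12, 21, 1), (13, 18, -1), (25, 7, 1), (26, 4, -1)],
  [(0, 22, -1), (3, 21, 1), (13, 8, -1), (16, 7, 1), (20, 11, 1), (26, 9, -1)],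
  [(0, 16, -1), (2, 10, 1), (12, 24, -1), (14, 18, 1), (22, 7, 1), (23, 4, -1)],
  [(0, 25, 1), (3, 24, -1), (14, 8, 1), (17, 7, -1), (20, 10, 1), (23, 9, -1)],
  [(0, 19, -1), (3, 18, 1), (12, 8, -1), (15, 7, 1), (23, 11, -1), (26, 10, 1)],
  [(0, 3, -1), (1, 4, -1), (2, 5, -1), (19, 18, 1), (22, 21, 1), (25, 24, 1)],
  [(0, 12, 1), (1, 9, -1), (16, 24, 1), (17, 21, -1), (19, 8, 1), (20, 5, -1)],
  [(0, 14, 1), (1, 11, -1), (15, 21, 1), (16, 18, -1), (25, 8, 1), (26, 5, -1)],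
  [(0, 13, 1), (1, 10, -1), (15, 24, -1), (17, 18, 1), (22, 8, 1), (23, 5, -1)],
  [(0, 6, 1), (1, 7, 1), (2, 8, 1), (20, 18, -1), (23, 21, -1), (26, 24, -1)]]

/-- The operator of a root. -/
def ops (r : ℕ) : Ents := opsList.getD r []

/-- The steps. -/
def steps : List Step := [
  { b := 3
    zero := []
    kill := [(0, 67), (4, 15), (5, 11), (6, 22), (12, 35), (13, 30), (14, 33), (15, 44), (16, 42), (17, 43), (18, 5), (20, 50), (21, 8), (23, 53), (24, 6), (26, 51)]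
    opp := [(1, 8), (2, 7), (7, 2), (8, 1), (9, 19), (10, 22), (11, 25), (19, 9), (22, 10), (25, 11)]
    mode := .free none [(0, [4]), (1, [4, 56]), (2, [4, 60]), (3, []), (4, [56]), (5, [60]), (6, [49]), (7, [27, 66]), (8, [36, 66]), (9, [18, 65]), (10, [20, 66]), (11, [18, 66]), (12, [36]), (13, [41]), (14, [38]), (15, [27]), (16, [29]), (17, [28]), (18, [66]), (19, [4, 66]), (20, [21]), (21, [63]), (22, [4, 63]), (23, [18]), (24, [65]), (25, [4, 65]), (26, [20])] [-1, -1, -1, -1, -1, 1] },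
  { b := 9
    zero := []
    kill := [(1, 68), (2, 61), (4, 36), (5, 27), (7, 23), (8, 16), (10, 31), (11, 34), (12, 56), (15, 60), (21, 20), (22, 58), (23, 65), (24, 18), (25, 57), (26, 63)]
    opp := [(0, 18), (3, 19), (6, 20), (13, 17), (14, 16), (16, 14), (17, 13), (18, 0), (19, 3), (20, 6)]
    mode := .free (some 3) [(1, [3]), (2, [10]), (7, [48]), (8, [55]), (9, []), (10, [40]), (11, [37]), (19, [3, 55]), (22, [13]), (25, [14])] [-1, -1, -1, -1, 0, 0] },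
  { b := 19
    zero := []
    kill := [(0, 66), (1, 55), (2, 48), (6, 21), (7, 10), (8, 3), (10, 13), (11, 14), (13, 28), (14, 29), (16, 38), (17, 41), (18, 4), (20, 49), (22, 40), (25, 37)]
    opp := [(3, 9), (4, 12), (5, 15), (9, 3), (12, 4), (15, 5), (21, 26), (23, 24), (24, 23), (26, 21)]
    mode := .forced 3 9 },
  { b := 26
    zero := [(0, 9, 18), (1, 3, 8), (2, 3, 7), (3, 9, 19), (6, 9, 20), (7, 3, 2), (8, 3, 1), (9, 3, 19), (10, 3, 22), (11, 3, 25), (13, 9, 17), (14, 9, 16), (16, 9, 14), (17, 9, 13), (18, 9, 0), (19, 3, 9), (20, 9, 6), (22, 3, 10), (25, 3, 11)]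
    kill := [(4, 9), (5, 2), (12, 19), (15, 25), (23, 39), (24, 0)]
    opp := [(21, 19)]
    mode := .free none [(4, [62]), (5, [69]), (12, [52]), (15, [46]), (21, [32, 71]), (23, [32]), (24, [71]), (26, [])] [-1, 0, 0, -1, 0, 1] },
  { b := 21
    zero := [(0, 9, 18), (1, 3, 8), (2, 3, 7), (3, 9, 19), (6, 9, 20), (7, 3, 2), (8, 3, 1), (9, 3, 19), (10, 3, 22), (11, 3, 25), (13, 9, 17), (14, 9, 16), (16, 9, 14), (17, 9, 13), (18, 9, 0), (19, 3, 9), (20, 9, 6), (22, 3, 10), (25, 3, 11)]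
    kill := [(4, 52), (5, 46), (12, 62), (15, 69), (23, 71), (24, 32)]
    opp := [(26, 19)]
    mode := .forced 19 26 },
  { b := 14
    zero := [(0, 21, 10), (1, 3, 8), (2, 3, 7), (3, 9, 19), (4, 19, 12), (5, 19, 15), (7, 3, 2), (8, 3, 1), (9, 3, 19), (10, 3, 22), (11, 3, 25), (12, 19, 4), (13, 21, 1), (15, 19, 5), (16, 21, 2), (19, 3, 9), (20, 21, 25), (21, 19, 26), (22, 3, 10), (23, 19, 24), (24, 19, 23), (25, 3, 11), (26, 19, 21)]
    kill := [(6, 24), (17, 45), (18, 7)]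
    opp := []
    mode := .free none [(6, [47]), (14, []), (17, [26]), (18, [64])] [-1, 1, -1, 0, -1, 0] },
  { b := 7
    zero := [(0, 9, 18), (1, 21, 13), (2, 21, 16), (3, 9, 19), (4, 19, 12), (5, 19, 15), (6, 9, 20), (9, 3, 19), (10, 21, 0), (12, 19, 4), (13, 9, 17), (14, 9, 16), (15, 19, 5), (16, 9, 14), (17, 9, 13), (18, 9, 0), (19, 3, 9), (20, 9, 6), (21, 19, 26), (23, 19, 24), (24, 19, 23), (25, 21, 20), (26, 19, 21)]
    kill := [(8, 26), (11, 47), (22, 64)]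
    opp := []
    mode := .forced 26 14 },
  { b := 2
    zero := [(0, 9, 18), (1, 14, 24), (3, 9, 19), (4, 19, 12), (5, 19, 15), (6, 9, 20), (7, 26, 14), (8, 26, 17), (9, 3, 19), (10, 14, 15), (11, 26, 6), (12, 19, 4), (13, 9, 17), (14, 9, 16), (15, 19, 5), (16, 9, 14), (17, 9, 13), (18, 9, 0), (19, 3, 9), (20, 9, 6), (21, 19, 26), (22, 26, 18), (23, 19, 24), (24, 19, 23), (25, 14, 4), (26, 19, 21)]
    kill := []
    opp := []
    mode := .forced 3 7 },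
  { b := 16
    zero := [(0, 7, 5), (1, 3, 8), (2, 3, 7), (3, 9, 19), (4, 19, 12), (5, 19, 15), (6, 26, 11), (7, 3, 2), (8, 3, 1), (9, 3, 19), (10, 3, 22), (11, 3, 25), (12, 19, 4), (13, 7, 23), (14, 26, 7), (15, 19, 5), (17, 26, 8), (18, 26, 22), (19, 3, 9), (20, 7, 12), (21, 19, 26), (22, 3, 10), (23, 19, 24), (24, 19, 23), (25, 3, 11), (26, 19, 21)]
    kill := []
    opp := []
    mode := .forced 9 14 },
  { b := 23
    zero := [(0, 9, 18), (1, 3, 8), (2, 3, 7), (3, 9, 19), (4, 14, 25), (6, 9, 20), (7, 3, 2), (8, 3, 1), (9, 3, 19), (10, 3, 22), (11, 3, 25), (13, 9, 17), (14, 9, 16), (15, 14, 10), (16, 9, 14), (17, 9, 13), (18, 9, 0), (19, 3, 9), (20, 9, 6), (21, 19, 26), (22, 3, 10), (24, 14, 1), (25, 3, 11), (26, 19, 21)]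
    kill := [(5, 1), (12, 17)]
    opp := []
    mode := .free none [(5, [70]), (12, [54]), (23, [])] [-1, 1, 0, 1, 0, 1] },
  { b := 8
    zero := [(0, 9, 18), (1, 21, 13), (2, 3, 7), (3, 9, 19), (4, 19, 12), (5, 19, 15), (6, 9, 20), (7, 3, 2), (9, 3, 19), (10, 21, 0), (12, 19, 4), (13, 9, 17), (14, 9, 16), (15, 19, 5), (16, 9, 14), (17, 9, 13), (18, 9, 0), (19, 3, 9), (20, 9, 6), (21, 19, 26), (23, 19, 24), (24, 19, 23), (25, 21, 20), (26, 19, 21)]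
    kill := [(11, 54), (22, 70)]
    opp := []
    mode := .forced 16 23 },
  { b := 1
    zero := [(0, 9, 18), (2, 3, 7), (3, 9, 19), (4, 19, 12), (5, 19, 15), (6, 9, 20), (7, 3, 2), (8, 26, 17), (9, 3, 19), (10, 23, 6), (11, 26, 6), (12, 19, 4), (13, 9, 17), (14, 9, 16), (15, 19, 5), (16, 9, 14), (17, 9, 13), (18, 9, 0), (19, 3, 9), (20, 9, 6), (21, 19, 26), (22, 26, 18), (23, 19, 24), (24, 19, 23), (25, 23, 18), (26, 19, 21)]
    kill := []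
    opp := []
    mode := .forced 3 8 },
  { b := 13
    zero := [(0, 8, 4), (1, 3, 8), (2, 3, 7), (3, 9, 19), (4, 19, 12), (5, 19, 15), (6, 26, 11), (7, 3, 2), (8, 3, 1), (9, 3, 19), (10, 3, 22), (11, 3, 25), (12, 19, 4), (14, 9, 16), (15, 19, 5), (16, 9, 14), (17, 26, 8), (18, 26, 22), (19, 3, 9), (20, 8, 15), (21, 19, 26), (22, 3, 10), (23, 19, 24), (24, 19, 23), (25, 3, 11), (26, 19, 21)]
    kill := []
    opp := []
    mode := .forced 21 1 },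
  { b := 17
    zero := [(0, 21, 10), (1, 3, 8), (2, 3, 7), (3, 9, 19), (4, 19, 12), (5, 19, 15), (6, 23, 10), (7, 3, 2), (8, 3, 1), (9, 3, 19), (10, 3, 22), (11, 3, 25), (12, 19, 4), (13, 21, 1), (14, 9, 16), (15, 19, 5), (16, 9, 14), (18, 23, 25), (19, 3, 9), (20, 21, 25), (21, 19, 26), (22, 3, 10), (23, 19, 24), (24, 19, 23), (25, 3, 11), (26, 19, 21)]
    kill := []
    opp := []
    mode := .forced 9 13 },
  { b := 24
    zero := [(0, 9, 18), (1, 3, 8), (2, 3, 7), (3, 9, 19), (4, 8, 0), (5, 7, 0), (6, 9, 20), (7, 3, 2), (8, 3, 1), (9, 3, 19), (10, 3, 22), (11, 3, 25), (12, 7, 20), (13, 9, 17), (14, 9, 16), (15, 8, 20), (16, 9, 14), (17, 9, 13), (18, 9, 0), (19, 3, 9), (20, 9, 6), (21, 19, 26), (22, 3, 10), (23, 7, 13), (25, 3, 11), (26, 19, 21)]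
    kill := []
    opp := []
    mode := .forced 19 23 },
  { b := 11
    zero := [(0, 9, 18), (1, 3, 8), (2, 3, 7), (3, 9, 19), (4, 19, 12), (5, 19, 15), (6, 9, 20), (7, 3, 2), (8, 3, 1), (9, 3, 19), (10, 21, 0), (12, 19, 4), (13, 9, 17), (14, 9, 16), (15, 19, 5), (16, 9, 14), (17, 9, 13), (18, 9, 0), (19, 3, 9), (20, 9, 6), (21, 19, 26), (23, 19, 24), (24, 19, 23), (25, 21, 20), (26, 19, 21)]
    kill := [(22, 59)]
    opp := []
    mode := .free none [(11, []), (22, [12])] [-1, 0, -1, -1, -1, 0] },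
  { b := 0
    zero := [(1, 3, 8), (2, 3, 7), (3, 9, 19), (4, 19, 12), (5, 19, 15), (6, 26, 11), (7, 3, 2), (8, 3, 1), (9, 3, 19), (10, 3, 22), (11, 3, 25), (12, 19, 4), (13, 9, 17), (14, 9, 16), (15, 19, 5), (16, 9, 14), (17, 9, 13), (18, 26, 22), (19, 3, 9), (21, 19, 26), (22, 3, 10), (23, 19, 24), (24, 19, 23), (25, 3, 11), (26, 19, 21)]
    kill := [(20, 12)]
    opp := []
    mode := .forced 24 11 },
  { b := 4
    zero := [(0, 9, 18), (1, 3, 8), (2, 3, 7), (3, 9, 19), (5, 7, 0), (6, 9, 20), (7, 3, 2), (8, 3, 1), (9, 3, 19), (10, 3, 22), (11, 3, 25), (12, 7, 20), (13, 9, 17), (14, 9, 16), (15, 13, 11), (16, 9, 14), (17, 9, 13), (18, 9, 0), (19, 3, 9), (20, 9, 6), (21, 19, 26), (22, 3, 10), (23, 19, 24), (24, 19, 23), (25, 3, 11), (26, 19, 21)]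
    kill := []
    opp := []
    mode := .forced 8 0 },
  { b := 5
    zero := [(0, 9, 18), (1, 3, 8), (2, 3, 7), (3, 9, 19), (4, 14, 25), (6, 9, 20), (7, 3, 2), (8, 3, 1), (9, 3, 19), (10, 3, 22), (11, 3, 25), (12, 19, 4), (13, 9, 17), (14, 9, 16), (15, 14, 10), (16, 9, 14), (17, 9, 13), (18, 9, 0), (19, 3, 9), (20, 9, 6), (21, 19, 26), (22, 3, 10), (23, 19, 24), (24, 19, 23), (25, 3, 11), (26, 19, 21)]
    kill := []
    opp := []
    mode := .forced 7 0 },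
  { b := 6
    zero := [(0, 21, 10), (1, 3, 8), (2, 3, 7), (3, 9, 19), (4, 19, 12), (5, 19, 15), (7, 3, 2), (8, 3, 1), (9, 3, 19), (10, 3, 22), (11, 3, 25), (12, 19, 4), (13, 9, 17), (14, 9, 16), (15, 19, 5), (16, 9, 14), (17, 9, 13), (18, 9, 0), (19, 3, 9), (20, 21, 25), (21, 19, 26), (22, 3, 10), (23, 19, 24), (24, 19, 23), (25, 3, 11), (26, 19, 21)]
    kill := []
    opp := []
    mode := .forced 26 11 },
  { b := 10
    zero := [(0, 9, 18), (1, 3, 8), (2, 3, 7), (3, 9, 19), (4, 19, 12), (5, 19, 15), (6, 9, 20), (7, 3, 2), (8, 3, 1), (9, 3, 19), (11, 26, 6), (12, 19, 4), (13, 9, 17), (14, 9, 16), (15, 19, 5), (16, 9, 14), (17, 9, 13), (18, 9, 0), (19, 3, 9), (20, 9, 6), (21, 19, 26), (22, 26, 18), (23, 19, 24), (24, 19, 23), (25, 3, 11), (26, 19, 21)]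
    kill := []
    opp := []
    mode := .forced 21 0 },
  { b := 12
    zero := [(0, 9, 18), (1, 3, 8), (2, 3, 7), (3, 9, 19), (4, 14, 25), (5, 7, 0), (6, 9, 20), (7, 3, 2), (8, 3, 1), (9, 3, 19), (10, 3, 22), (11, 3, 25), (13, 9, 17), (14, 9, 16), (15, 19, 5), (16, 9, 14), (17, 9, 13), (18, 9, 0), (19, 3, 9), (20, 9, 6), (21, 19, 26), (22, 3, 10), (23, 19, 24), (24, 19, 23), (25, 3, 11), (26, 19, 21)]
    kill := []
    opp := []
    mode := .forced 19 4 },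
  { b := 15
    zero := [(0, 9, 18), (1, 3, 8), (2, 3, 7), (3, 9, 19), (4, 19, 12), (5, 7, 0), (6, 9, 20), (7, 3, 2), (8, 3, 1), (9, 3, 19), (10, 3, 22), (11, 3, 25), (12, 19, 4), (13, 9, 17), (14, 9, 16), (16, 9, 14), (17, 9, 13), (18, 9, 0), (19, 3, 9), (20, 9, 6), (21, 19, 26), (22, 3, 10), (23, 19, 24), (24, 19, 23), (25, 3, 11), (26, 19, 21)]
    kill := []
    opp := []
    mode := .forced 19 5 },
  { b := 18
    zero := [(0, 21, 10), (1, 3, 8), (2, 3, 7), (3, 9, 19), (4, 19, 12), (5, 19, 15), (6, 26, 11), (7, 3, 2), (8, 3, 1), (9, 3, 19), (10, 3, 22), (11, 3, 25), (12, 19, 4), (13, 9, 17), (14, 9, 16), (15, 19, 5), (16, 9, 14), (17, 9, 13), (19, 3, 9), (20, 9, 6), (21, 19, 26), (22, 3, 10), (23, 19, 24), (24, 19, 23), (25, 3, 11), (26, 19, 21)]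
    kill := []
    opp := []
    mode := .forced 9 0 },
  { b := 20
    zero := [(0, 9, 18), (1, 3, 8), (2, 3, 7), (3, 9, 19), (4, 19, 12), (5, 19, 15), (6, 26, 11), (7, 3, 2), (8, 3, 1), (9, 3, 19), (10, 3, 22), (11, 3, 25), (12, 19, 4), (13, 9, 17), (14, 9, 16), (15, 19, 5), (16, 9, 14), (17, 9, 13), (18, 9, 0), (19, 3, 9), (21, 19, 26), (22, 3, 10), (23, 19, 24), (24, 19, 23), (25, 3, 11), (26, 19, 21)]
    kill := []
    opp := []
    mode := .forced 9 6 },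
  { b := 22
    zero := [(0, 9, 18), (1, 3, 8), (2, 3, 7), (3, 9, 19), (4, 19, 12), (5, 19, 15), (6, 9, 20), (7, 3, 2), (8, 3, 1), (9, 3, 19), (10, 21, 0), (11, 26, 6), (12, 19, 4), (13, 9, 17), (14, 9, 16), (15, 19, 5), (16, 9, 14), (17, 9, 13), (18, 9, 0), (19, 3, 9), (20, 9, 6), (21, 19, 26), (23, 19, 24), (24, 19, 23), (25, 3, 11), (26, 19, 21)]
    kill := []
    opp := []
    mode := .forced 3 10 },
  { b := 25
    zero := [(0, 9, 18), (1, 3, 8), (2, 3, 7), (3, 9, 19), (4, 19, 12), (5, 19, 15), (6, 9, 20), (7, 3, 2), (8, 3, 1), (9, 3, 19), (10, 3, 22), (11, 26, 6), (12, 19, 4), (13, 9, 17), (14, 9, 16), (15, 19, 5), (16, 9, 14), (17, 9, 13), (18, 9, 0), (19, 3, 9), (20, 9, 6), (21, 19, 26), (22, 3, 10), (23, 19, 24), (24, 19, 23), (26, 19, 21)]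
    kill := []
    opp := []
    mode := .forced 3 11 }]

end CfsgLib.CubicE6
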